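import Mathlib
import Cfsg.Agent.Lib.ClassSize.Basic

/-!
# Prime parts of elements

`IsEl q g` says that `g` has `q`-power order.  Every element is the commuting product of its
`q`-part and its `q'`-part, which are powers of the element.
-/

set_option autoImplicit false
set_option linter.style.haveILetI false
set_option linter.unusedSectionVars false
set_option linter.unusedVariables false

namespace Cfsg.Agent.Lib.Ito

open Subgroup

universe u

variable {G : Type*} [Group G]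

/-- `g` has order a power of `q`. -/
def IsEl (q : ℕ) (g : G) : Prop := ∃ e : ℕ, g ^ q ^ e = 1

theorem isEl_one (q : ℕ) : IsEl q (1 : G) := ⟨0, one_pow _⟩

theorem IsEl.pow {q : ℕ} {g : G} (h : IsEl q g) (k : ℕ) : IsEl q (g ^ k) := by
  obtain ⟨e, he⟩ := h
  exact ⟨e, by rw [← pow_mul, mul_comm, pow_mul, he, one_pow]⟩

theorem IsEl.zpow {q : ℕ} {g : G} (h : IsEl q g) (k : ℤ) : IsEl q (g ^ k) := by
  obtain ⟨e, he⟩ := h
  refine ⟨e, ?_⟩
  rw [← zpow_natCast, ← zpow_mul, mul_comm, zpow_mul, zpow_natCast, he, one_zpow]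

theorem IsEl.inv {q : ℕ} {g : G} (h : IsEl q g) : IsEl q g⁻¹ := by
  simpa using h.zpow (-1)

theorem IsEl.of_mem_zpowers {q : ℕ} {g x : G} (h : IsEl q g) (hx : x ∈ zpowers g) : IsEl q x := by
  obtain ⟨k, rfl⟩ := mem_zpowers_iff.1 hx
  exact h.zpow k

theorem IsEl.mul {q : ℕ} {a b : G} (hc : Commute a b) (ha : IsEl q a) (hb : IsEl q b) :
    IsEl q (a * b) := by
  obtain ⟨e, he⟩ := ha
  obtain ⟨f, hf⟩ := hb
  refine ⟨e + f, ?_⟩
  rw [hc.mul_pow, pow_add, pow_mul, he, one_pow, one_mul, mul_comm, pow_mul, hf, one_pow]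

theorem IsEl.map {H : Type*} [Group H] (φ : G →* H) {q : ℕ} {g : G} (h : IsEl q g) :
    IsEl q (φ g) := by
  obtain ⟨e, he⟩ := h
  exact ⟨e, by rw [← map_pow, he, map_one]⟩

theorem IsEl.conj {q : ℕ} {g : G} (h : IsEl q g) (k : G) : IsEl q (k * g * k⁻¹) := by
  obtain ⟨e, he⟩ := h
  exact ⟨e, by rw [conj_pow, he]; group⟩

theorem isEl_conj_iff {q : ℕ} {g k : G} : IsEl q (k * g * k⁻¹) ↔ IsEl q g := by
  refine ⟨fun h => ?_, fun h => h.conj k⟩
  have := h.conj k⁻¹
  simpa [mul_assoc] using this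

theorem IsEl.orderOf_eq {q : ℕ} (hq : q.Prime) {g : G} (h : IsEl q g) :
    ∃ e, orderOf g = q ^ e := by
  obtain ⟨e, he⟩ := h
  obtain ⟨f, -, hf⟩ := (Nat.dvd_prime_pow hq).1 (orderOf_dvd_of_pow_eq_one he)
  exact ⟨f, hf⟩

theorem isEl_of_orderOf {q : ℕ} {g : G} {e : ℕ} (h : orderOf g = q ^ e) : IsEl q g :=
  ⟨e, by rw [← h, pow_orderOf_eq_one]⟩

theorem isEl_of_orderOf_eq {q : ℕ} {g : G} (h : orderOf g = q) : IsEl q g :=
  ⟨1, by rw [pow_one, ← h, pow_orderOf_eq_one]⟩

theorem IsEl.eq_one_of_coprime {q : ℕ} {g : G} (h : IsEl q g) (hc : Nat.Coprime (orderOf g) q) :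
    g = 1 := by
  obtain ⟨e, he⟩ := h
  have h1 : orderOf g ∣ q ^ e := orderOf_dvd_of_pow_eq_one he
  have h2 : Nat.Coprime (orderOf g) (q ^ e) := Nat.Coprime.pow_right _ hc
  exact orderOf_eq_one_iff.1 (Nat.Coprime.eq_one_of_dvd h2 h1)

theorem IsEl.coprime_of_ne {q r : ℕ} (hq : q.Prime) (hr : r.Prime) (hne : q ≠ r) {g : G}
    (h : IsEl q g) : Nat.Coprime (orderOf g) r := by
  obtain ⟨e, he⟩ := h.orderOf_eq hq
  rw [he]
  exact Nat.Coprime.pow_left _ ((Nat.coprime_primes hq hr).2 hne)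

theorem IsEl.coprime_of_isEl {q r : ℕ} (hq : q.Prime) (hr : r.Prime) (hne : q ≠ r) {g k : G}
    (h : IsEl q g) (hk : IsEl r k) : Nat.Coprime (orderOf g) (orderOf k) := by
  obtain ⟨e, he⟩ := h.orderOf_eq hq
  obtain ⟨f, hf⟩ := hk.orderOf_eq hr
  rw [he, hf]
  exact Nat.Coprime.pow _ _ ((Nat.coprime_primes hq hr).2 hne)

theorem IsEl.eq_one_of_isEl {q r : ℕ} (hq : q.Prime) (hr : r.Prime) (hne : q ≠ r) {g : G}
    (h : IsEl q g) (hk : IsEl r g) : g = 1 :=
  hk.eq_one_of_coprime (h.coprime_of_ne hq hr hne)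

section Coprime

variable {q : ℕ}

theorem coprime_orderOf_pow {g : G} (h : Nat.Coprime (orderOf g) q) (k : ℕ) :
    Nat.Coprime (orderOf (g ^ k)) q :=
  Nat.Coprime.coprime_dvd_left (orderOf_pow_dvd_orderOf_aux g k) h
where
  orderOf_pow_dvd_orderOf_aux (g : G) (k : ℕ) : orderOf (g ^ k) ∣ orderOf g := by
    apply orderOf_dvd_of_pow_eq_one
    rw [← pow_mul, mul_comm, pow_mul, pow_orderOf_eq_one, one_pow]

theorem coprime_orderOf_of_mem_zpowers {g x : G} (h : Nat.Coprime (orderOf g) q)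
    (hx : x ∈ zpowers g) : Nat.Coprime (orderOf x) q :=
  Nat.Coprime.coprime_dvd_left (orderOf_dvd_of_mem_zpowers hx) h

theorem coprime_orderOf_inv {g : G} (h : Nat.Coprime (orderOf g) q) :
    Nat.Coprime (orderOf g⁻¹) q := by
  rwa [orderOf_inv]

theorem coprime_orderOf_mul {a b : G} (hc : Commute a b) (ha : Nat.Coprime (orderOf a) q)
    (hb : Nat.Coprime (orderOf b) q) : Nat.Coprime (orderOf (a * b)) q :=
  Nat.Coprime.coprime_dvd_left hc.orderOf_mul_dvd_mul_orderOf (Nat.Coprime.mul_left ha hb)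

theorem coprime_orderOf_conj {g : G} (h : Nat.Coprime (orderOf g) q) (k : G) :
    Nat.Coprime (orderOf (k * g * k⁻¹)) q := by
  have : orderOf (k * g * k⁻¹) = orderOf g := by
    have := orderOf_injective (MulAut.conj k).toMonoidHom (MulAut.conj k).injective g
    simpa using this
  rwa [this]

theorem orderOf_conj_eq (g k : G) : orderOf (k * g * k⁻¹) = orderOf g := by
  have := orderOf_injective (MulAut.conj k).toMonoidHom (MulAut.conj k).injective g
  simpa using this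

theorem coprime_orderOf_conj_iff {g k : G} :
    Nat.Coprime (orderOf (k * g * k⁻¹)) q ↔ Nat.Coprime (orderOf g) q := by
  rw [orderOf_conj_eq]

theorem coprime_orderOf_map {H : Type*} [Group H] (φ : G →* H) {g : G}
    (h : Nat.Coprime (orderOf g) q) : Nat.Coprime (orderOf (φ g)) q :=
  Nat.Coprime.coprime_dvd_left (orderOf_map_dvd φ g) h

end Coprime

variable [Finite G]

/-- The `q`-part and `q'`-part of an element. -/
theorem exists_parts {q : ℕ} (hq : q.Prime) (g : G) :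
    ∃ a b : G, a ∈ zpowers g ∧ b ∈ zpowers g ∧ a * b = g ∧ IsEl q a ∧
      Nat.Coprime (orderOf b) q := by
  have hne : orderOf g ≠ 0 := (orderOf_pos g).ne'
  obtain ⟨i, m, hpm, hdec⟩ := Nat.exists_eq_pow_mul_and_not_dvd hne q hq.ne_one
  have hcop : Nat.Coprime (q ^ i) m :=
    Nat.Coprime.pow_left _ ((Nat.Prime.coprime_iff_not_dvd hq).2 hpm)
  have hbez := Nat.gcd_eq_gcd_ab (q ^ i) m
  rw [hcop] at hbez
  set s := Nat.gcdA (q ^ i) m
  set t := Nat.gcdB (q ^ i) m
  have h1 : g ^ ((m : ℤ) * t) * g ^ (((q ^ i : ℕ) : ℤ) * s) = g := by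
    rw [← zpow_add]
    have : (m : ℤ) * t + ((q ^ i : ℕ) : ℤ) * s = 1 := by
      have : ((1 : ℕ) : ℤ) = ((q ^ i : ℕ) : ℤ) * s + m * t := hbez
      push_cast at this ⊢
      linarith
    rw [this, zpow_one]
  refine ⟨_, _, ⟨_, rfl⟩, ⟨_, rfl⟩, h1, ?_, ?_⟩
  · refine ⟨i, ?_⟩
    rw [← zpow_natCast, ← zpow_mul]
    have : (m : ℤ) * t * ((q ^ i : ℕ) : ℤ) = (orderOf g : ℤ) * t := by
      rw [hdec]
      push_cast
      ring
    rw [this, zpow_mul, zpow_natCast, pow_orderOf_eq_one, one_zpow]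
  · have hd : orderOf (g ^ (((q ^ i : ℕ) : ℤ) * s)) ∣ m := by
      apply orderOf_dvd_of_pow_eq_one
      rw [← zpow_natCast, ← zpow_mul]
      have : ((q ^ i : ℕ) : ℤ) * s * (m : ℤ) = (orderOf g : ℤ) * s := by
        rw [hdec]
        push_cast
        ring
      rw [this, zpow_mul, zpow_natCast, pow_orderOf_eq_one, one_zpow]
    exact Nat.Coprime.coprime_dvd_left hd ((Nat.Prime.coprime_iff_not_dvd hq).2 hpm).symm

theorem parts_commute {g a b : G} (ha : a ∈ zpowers g) (hb : b ∈ zpowers g) : Commute a b := by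
  obtain ⟨i, rfl⟩ := mem_zpowers_iff.1 ha
  obtain ⟨j, rfl⟩ := mem_zpowers_iff.1 hb
  exact (Commute.refl g).zpow_zpow i j

omit [Finite G] in
theorem commute_of_mem_zpowers {g a b : G} (ha : a ∈ zpowers g) (hc : Commute g b) :
    Commute a b := by
  obtain ⟨i, rfl⟩ := mem_zpowers_iff.1 ha
  exact hc.zpow_left i

/-- Image of the `q`-part, when the image of the element is a `q`-element. -/
theorem map_part_left {H : Type*} [Group H] (φ : G →* H) {q : ℕ} {g a b : G} (ha : a ∈ zpowers g)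
    (hb : b ∈ zpowers g) (hab : a * b = g) (hc : Nat.Coprime (orderOf b) q)
    (hφ : IsEl q (φ g)) : φ a = φ g := by
  have h1 : IsEl q (φ b) := by
    apply hφ.of_mem_zpowers
    obtain ⟨k, rfl⟩ := mem_zpowers_iff.1 hb
    rw [map_zpow]
    exact zpow_mem_zpowers _ _
  have h2 : φ b = 1 := h1.eq_one_of_coprime (coprime_orderOf_map φ hc)
  rw [← hab, map_mul, h2, mul_one]

/-- Image of the `q'`-part, when the image of the element is a `q'`-element. -/
theorem map_part_right {H : Type*} [Group H] (φ : G →* H) {q : ℕ} {g a b : G} (ha : a ∈ zpowers g)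
    (hab : a * b = g) (hqa : IsEl q a) (hφ : Nat.Coprime (orderOf (φ g)) q) : φ b = φ g := by
  have h1 : Nat.Coprime (orderOf (φ a)) q := by
    apply coprime_orderOf_of_mem_zpowers hφ
    obtain ⟨k, rfl⟩ := mem_zpowers_iff.1 ha
    rw [map_zpow]
    exact zpow_mem_zpowers _ _
  have h2 : φ a = 1 := (hqa.map φ).eq_one_of_coprime h1
  rw [← hab, map_mul, h2, one_mul]

/-- Commuting elements of coprime orders are powers of their product. -/
theorem mem_zpowers_mul_left {a b : G} (hc : Commute a b)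
    (hcop : Nat.Coprime (orderOf a) (orderOf b)) : a ∈ zpowers (a * b) := by
  obtain ⟨m, hm⟩ := exists_pow_eq_self_of_coprime hcop.symm
  have h2 : (a * b) ^ orderOf b = a ^ orderOf b := by
    rw [hc.mul_pow, pow_orderOf_eq_one, mul_one]
  have h3 : ((a * b) ^ orderOf b) ^ m = a := by rw [h2, hm]
  have h4 : ((a * b) ^ orderOf b) ^ m ∈ zpowers (a * b) :=
    (zpowers (a * b)).pow_mem ((zpowers (a * b)).pow_mem (mem_zpowers _) _) _
  rwa [h3] at h4

theorem mem_zpowers_mul_right {a b : G} (hc : Commute a b)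
    (hcop : Nat.Coprime (orderOf a) (orderOf b)) : b ∈ zpowers (a * b) := by
  have h := mem_zpowers_mul_left hc.symm hcop.symm
  rwa [hc.symm.eq] at h

/-- A nonidentity primary power outside a subgroup. -/
theorem exists_primary_notMem {K : Subgroup G} {x : G} (hx : x ∉ K) :
    ∃ (k s : ℕ), s.Prime ∧ x ^ k ∉ K ∧ IsEl s (x ^ k) := by
  obtain ⟨k, hk, s, e, hs, he⟩ := ClassSize.Basic.exists_primary_pow_notMem hx
  exact ⟨k, s, hs, hk, isEl_of_orderOf he⟩

omit [Finite G] in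
theorem isPGroup_iff_isEl {q : ℕ} {K : Subgroup G} : IsPGroup q K ↔ ∀ x ∈ K, IsEl q x := by
  constructor
  · intro h x hx
    obtain ⟨e, he⟩ := h ⟨x, hx⟩
    exact ⟨e, congrArg Subtype.val he⟩
  · intro h x
    obtain ⟨e, he⟩ := h x x.2
    exact ⟨e, Subtype.ext he⟩

/-- An element of prime order in a subgroup of order divisible by the prime. -/
theorem exists_el_of_dvd (M : Subgroup G) {q : ℕ} (hq : q.Prime) (h : q ∣ Nat.card M) :
    ∃ u ∈ M, orderOf u = q := by
  haveI : Fact q.Prime := ⟨hq⟩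
  obtain ⟨u, hu⟩ := exists_prime_orderOf_dvd_card' (G := M) q h
  exact ⟨u, u.2, by rw [← hu]; exact Subgroup.orderOf_coe u⟩

/-- The `q`-elements of an abelian subgroup. -/
def qSub (M : Subgroup G) (hab : ∀ a ∈ M, ∀ b ∈ M, a * b = b * a) (q : ℕ) : Subgroup G where
  carrier := {x | x ∈ M ∧ IsEl q x}
  mul_mem' := fun {a b} ha hb => ⟨M.mul_mem ha.1 hb.1, IsEl.mul (hab a ha.1 b hb.1) ha.2 hb.2⟩
  one_mem' := ⟨M.one_mem, isEl_one q⟩
  inv_mem' := fun {a} ha => ⟨M.inv_mem ha.1, ha.2.inv⟩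

variable {M : Subgroup G} {hab : ∀ a ∈ M, ∀ b ∈ M, a * b = b * a} {q : ℕ}

omit [Finite G] in
theorem mem_qSub {x : G} : x ∈ qSub M hab q ↔ x ∈ M ∧ IsEl q x := Iff.rfl

omit [Finite G] in
theorem qSub_le : qSub M hab q ≤ M := fun _ hx => hx.1

omit [Finite G] in
theorem isPGroup_qSub : IsPGroup q (qSub M hab q) := isPGroup_iff_isEl.2 fun _ hx => hx.2

omit [Finite G] in
theorem qSub_normalizer {g : G} (hg : g ∈ normalizer (M : Set G)) :
    g ∈ normalizer ((qSub M hab q : Subgroup G) : Set G) := by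
  rw [mem_normalizer_iff] at hg ⊢
  intro h
  constructor
  · intro hh
    exact ⟨(hg h).1 hh.1, hh.2.conj g⟩
  · intro hh
    exact ⟨(hg h).2 hh.1, isEl_conj_iff.1 hh.2⟩

/-- A `q`-group inside `M` is contained in `qSub`, whose order is the `q`-part of the order. -/
theorem card_qSub (hq : q.Prime) : Nat.card (qSub M hab q) = q ^ (Nat.card M).factorization q := by
  haveI : Fact q.Prime := ⟨hq⟩
  let T : Subgroup M := (qSub M hab q).subgroupOf M
  have hT : IsPGroup q T := by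
    rintro ⟨x, hx⟩
    obtain ⟨e, he⟩ := (show IsEl q ((x : G)) from hx.2)
    exact ⟨e, Subtype.ext (Subtype.ext he)⟩
  obtain ⟨P, hP⟩ := hT.exists_le_sylow
  have hPT : (P : Subgroup M) ≤ T := by
    intro x hx
    refine ⟨x.2, ?_⟩
    obtain ⟨e, he⟩ := P.isPGroup' ⟨x, hx⟩
    exact ⟨e, congrArg (fun y : P => ((y : M) : G)) he⟩
  have hPeq : (P : Subgroup M) = T := le_antisymm hPT hP
  have h1 : Nat.card P = q ^ (Nat.card M).factorization q := Sylow.card_eq_multiplicity P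
  have h2 : Nat.card T = Nat.card (qSub M hab q) :=
    Nat.card_congr (subgroupOfEquivOfLe qSub_le).toEquiv
  rw [← h2, ← hPeq, h1]

theorem qSub_ne_bot (hq : q.Prime) (hd : q ∣ Nat.card M) : qSub M hab q ≠ ⊥ := by
  obtain ⟨u, hu, hu2⟩ := exists_el_of_dvd M hq hd
  intro h
  have : u ∈ qSub M hab q := ⟨hu, isEl_of_orderOf_eq hu2⟩
  rw [h, mem_bot] at this
  rw [this, orderOf_one] at hu2
  exact hq.one_lt.ne hu2

/-- A `q`-group normalizing a nontrivial `q`-group fixes a nonidentity element of it. -/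
theorem exists_fixed {R V : Subgroup G} (hq : q.Prime) (hR : IsPGroup q R) (hV : IsPGroup q V)
    (hne : V ≠ ⊥) (hRV : R ≤ normalizer (V : Set G)) :
    ∃ z ∈ V, z ≠ 1 ∧ ∀ w ∈ R, w * z * w⁻¹ = z := by
  haveI : Fact q.Prime := ⟨hq⟩
  letI : MulAction R V :=
    { smul := fun r v => ⟨(r : G) * v * (r : G)⁻¹, (mem_normalizer_iff.1 (hRV r.2) v).1 v.2⟩
      one_smul := fun v => Subtype.ext (by show (1 : G) * v * (1 : G)⁻¹ = v; group)
      mul_smul := fun a b v => Subtype.ext (by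
        show ((a : G) * b) * v * ((a : G) * b)⁻¹ = a * (b * v * (b : G)⁻¹) * (a : G)⁻¹
        group) }
  have hfix : (1 : V) ∈ MulAction.fixedPoints R V := by
    intro r
    apply Subtype.ext
    show (r : G) * ((1 : V) : G) * (r : G)⁻¹ = ((1 : V) : G)
    simp
  have hdvd : q ∣ Nat.card V := by
    haveI : Nontrivial V := (nontrivial_iff_ne_bot V).2 hne
    obtain ⟨k, hk⟩ := IsPGroup.iff_card.1 hV
    rw [hk]
    have : k ≠ 0 := by
      rintro rfl
      rw [pow_zero] at hk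
      exact Finite.one_lt_card.ne' hk
    exact dvd_pow_self _ this
  obtain ⟨b, hb, hb1⟩ := hR.exists_fixed_point_of_prime_dvd_card_of_fixed_point V hdvd hfix
  refine ⟨b, b.2, fun h => hb1 (Subtype.ext h.symm), fun w hw => ?_⟩
  exact congrArg Subtype.val (hb ⟨w, hw⟩)

/-- Conjugation invariance of subgroups: conjugate of a subgroup. -/
def conjS (g : G) (M : Subgroup G) : Subgroup G := M.map (MulAut.conj g).toMonoidHom

omit [Finite G] in
theorem mem_conjS {g x : G} {M : Subgroup G} : x ∈ conjS g M ↔ g⁻¹ * x * g ∈ M := by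
  constructor
  · rintro ⟨y, hy, rfl⟩
    have : g⁻¹ * ((MulAut.conj g).toMonoidHom y) * g = y := by
      simp [MulAut.conj_apply, mul_assoc]
    rwa [this]
  · intro h
    refine ⟨_, h, ?_⟩
    simp [MulAut.conj_apply, mul_assoc]

omit [Finite G] in
theorem conj_mem_conjS {g x : G} {M : Subgroup G} (hx : x ∈ M) : g * x * g⁻¹ ∈ conjS g M :=
  mem_conjS.2 (by simpa [mul_assoc] using hx)

theorem card_conjS (g : G) (M : Subgroup G) : Nat.card (conjS g M) = Nat.card M :=
  Nat.card_congr (M.equivMapOfInjective _ (MulAut.conj g).injective).symm.toEquiv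

end Cfsg.Agent.Lib.Ito
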