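import Mathlib
import Cfsg.Agent.Lib.Ito.Parts
import Cfsg.Agent.Lib.Frobenius.Norm
import Cfsg.Agent.Lib.Frobenius.SylowFpf
import Cfsg.Agent.S0016

/-!
# A group acting on an abelian group with vanishing norms

Abstract form of the main lemma on normalizers of components: a group of odd order acting
faithfully on an abelian group `A` with the fixed point condition `H1`, the norm condition `H2`
and no commuting pair of elements of orders `r₁`, `r₂`, cannot have both `r₁` and `r₂` dividing its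
order when they both divide `|A|`.
-/

set_option autoImplicit false
set_option linter.style.haveILetI false
set_option linter.unusedSectionVars false
set_option linter.unusedVariables false

namespace Cfsg.Agent.Lib.Ito

open Subgroup Finset

section Pair

variable {W : Type*} [Group W] [Finite W]

/-- In a cyclic subgroup, elements of the same order generate the same subgroup. -/
theorem mem_zpowers_of_orderOf_eq' {P : Subgroup W} (hc : IsCyclic P) {a b : W} (ha : a ∈ P)
    (hb : b ∈ P) (hab : orderOf b = orderOf a) : b ∈ zpowers a := by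
  classical
  haveI := Fintype.ofFinite W
  haveI : Fintype P := Fintype.ofFinite _
  have hn : 0 < orderOf a := orderOf_pos a
  have hle := IsCyclic.card_pow_eq_one_le (α := P) (n := orderOf a) hn
  let a' : P := ⟨a, ha⟩
  have hoa' : orderOf a' = orderOf a := (Subgroup.orderOf_coe a').symm
  let S : Finset P := Finset.univ.filter fun x => x ^ orderOf a = 1
  have hpow : (Finset.univ.filter fun x : P => x ∈ zpowers a') ⊆ S := by
    intro x hx
    simp only [Finset.mem_filter, Finset.mem_univ, true_and] at hx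
    obtain ⟨i, rfl⟩ := hx
    simp only [S, Finset.mem_filter, Finset.mem_univ, true_and]
    rw [← zpow_natCast, ← zpow_mul, mul_comm, zpow_mul, zpow_natCast, ← hoa', pow_orderOf_eq_one,
      one_zpow]
  have hcard : (Finset.univ.filter fun x : P => x ∈ zpowers a').card = orderOf a := by
    have : (Finset.univ.filter fun x : P => x ∈ zpowers a').card = Nat.card (zpowers a') := by
      rw [Nat.card_eq_fintype_card, Fintype.card_subtype]
    rw [this, Nat.card_zpowers, hoa']
  have heq := Finset.eq_of_subset_of_card_le hpow (by rw [hcard]; exact hle)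
  have hbS : (⟨b, hb⟩ : P) ∈ S := by
    simp only [S, Finset.mem_filter, Finset.mem_univ, true_and]
    apply Subtype.ext
    simp only [SubmonoidClass.mk_pow, OneMemClass.coe_one]
    rw [← hab, pow_orderOf_eq_one]
  rw [← heq] at hbS
  simp only [Finset.mem_filter, Finset.mem_univ, true_and] at hbS
  obtain ⟨i, hi⟩ := hbS
  refine ⟨i, ?_⟩
  have := congrArg Subtype.val hi
  simpa using this

/-- Element of a normal cyclic subgroup: conjugates are powers. -/
theorem exists_conj_eq_pow {K : Subgroup W} [K.Normal] (hc : IsCyclic K) {b : W} (hb : b ∈ K)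
    (a : W) : ∃ k : ℕ, a * b * a⁻¹ = b ^ k := by
  have h1 : a * b * a⁻¹ ∈ K := Subgroup.Normal.conj_mem inferInstance b hb a
  have h2 : orderOf (a * b * a⁻¹) = orderOf b := by
    have := orderOf_injective (MulAut.conj a).toMonoidHom (MulAut.conj a).injective b
    simpa using this
  have h3 := mem_zpowers_of_orderOf_eq' hc hb h1 h2
  obtain ⟨k, hk⟩ := (mem_powers_iff_mem_zpowers).2 h3
  exact ⟨k, hk.symm⟩

/-- In a finite `Z`-group, two primes of the order are realized by elements `a`, `b` of those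
orders with `a` normalizing the group generated by `b`. -/
theorem exists_pair [IsZGroup W] {r₁ r₂ : ℕ} (hr₁ : r₁.Prime) (hr₂ : r₂.Prime) (hne : r₁ ≠ r₂)
    (h₁ : r₁ ∣ Nat.card W) (h₂ : r₂ ∣ Nat.card W) :
    ∃ (a b : W) (k : ℕ), ((orderOf a = r₁ ∧ orderOf b = r₂) ∨ (orderOf a = r₂ ∧ orderOf b = r₁)) ∧
      a * b * a⁻¹ = b ^ k := by
  haveI : Fact r₁.Prime := ⟨hr₁⟩
  haveI : Fact r₂.Prime := ⟨hr₂⟩
  have hK : IsCyclic (commutator W) := IsZGroup.isCyclic_commutator W
  by_cases hK₁ : r₁ ∣ Nat.card (commutator W)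
  · obtain ⟨b, hb, hob⟩ := exists_el_of_dvd (commutator W) hr₁ hK₁
    obtain ⟨a, hoa⟩ := exists_prime_orderOf_dvd_card' r₂ h₂
    obtain ⟨k, hk⟩ := exists_conj_eq_pow hK hb a
    exact ⟨a, b, k, Or.inr ⟨hoa, hob⟩, hk⟩
  by_cases hK₂ : r₂ ∣ Nat.card (commutator W)
  · obtain ⟨b, hb, hob⟩ := exists_el_of_dvd (commutator W) hr₂ hK₂
    obtain ⟨a, hoa⟩ := exists_prime_orderOf_dvd_card' r₁ h₁
    obtain ⟨k, hk⟩ := exists_conj_eq_pow hK hb a
    exact ⟨a, b, k, Or.inl ⟨hoa, hob⟩, hk⟩
  -- neither prime divides the order of the commutator subgroup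
  have hcard : Nat.card (commutator W) * Nat.card (W ⧸ commutator W) = Nat.card W := by
    rw [mul_comm, ← Subgroup.index_eq_card, Subgroup.index_mul_card]
  have hQ₁ : r₁ ∣ Nat.card (W ⧸ commutator W) := by
    rw [← hcard] at h₁
    exact (hr₁.dvd_mul.1 h₁).resolve_left hK₁
  have hQ₂ : r₂ ∣ Nat.card (W ⧸ commutator W) := by
    rw [← hcard] at h₂
    exact (hr₂.dvd_mul.1 h₂).resolve_left hK₂
  haveI hcyc : IsCyclic (W ⧸ commutator W) :=
    inferInstanceAs (IsCyclic (Abelianization W))
  obtain ⟨gb, hgb⟩ := IsCyclic.exists_ofOrder_eq_natCard (α := W ⧸ commutator W)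
  obtain ⟨g, rfl⟩ := QuotientGroup.mk_surjective gb
  have hdvd : orderOf ((g : W ⧸ commutator W)) ∣ orderOf g :=
    orderOf_map_dvd (QuotientGroup.mk' (commutator W)) g
  have hg₁ : r₁ ∣ orderOf g := (hgb ▸ hQ₁).trans hdvd
  have hg₂ : r₂ ∣ orderOf g := (hgb ▸ hQ₂).trans hdvd
  have hpos : orderOf g ≠ 0 := (orderOf_pos g).ne'
  refine ⟨g ^ (orderOf g / r₁), g ^ (orderOf g / r₂), 1, Or.inl ⟨?_, ?_⟩, ?_⟩
  · exact orderOf_pow_orderOf_div hpos hg₁
  · exact orderOf_pow_orderOf_div hpos hg₂
  · have : Commute (g ^ (orderOf g / r₁)) (g ^ (orderOf g / r₂)) := (Commute.refl g).pow_pow _ _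
    rw [this.eq, pow_one]
    group

end Pair

section Action

variable {A W : Type*} [CommGroup A] [Finite A] [Group W] [Finite W] [MulDistribMulAction W A]

theorem orderOf_smul_eq (g : W) (v : A) : orderOf (g • v) = orderOf v :=
  orderOf_injective (MulDistribMulAction.toMonoidHom A g) (MulAction.injective g) v

theorem prod_range_mul_reindex {b : W} {n c : ℕ} (hb : b ^ n = 1) (hn : 0 < n)
    (hc : Nat.Coprime c n) (x : A) :
    ∏ j ∈ range n, (b ^ (j * c)) • x = ∏ j ∈ range n, (b ^ j) • x := by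
  have hmap : Set.MapsTo (fun j => (j * c) % n) (range n : Set ℕ) (range n : Set ℕ) := by
    intro j _
    simp only [coe_range, Set.mem_Iio]
    exact Nat.mod_lt _ hn
  have hinj : Set.InjOn (fun j => (j * c) % n) (range n : Set ℕ) := by
    intro i hi j hj hij
    simp only [coe_range, Set.mem_Iio] at hi hj
    have h1 : i * c ≡ j * c [MOD n] := hij
    have h2 : i ≡ j [MOD n] := Nat.ModEq.cancel_right_of_coprime (by
      rw [Nat.gcd_comm]; exact hc) h1
    exact Nat.ModEq.eq_of_lt_of_lt h2 hi hj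
  refine Finset.prod_nbij (fun j => (j * c) % n) (fun j hj => ?_) hinj ?_ ?_
  · exact hmap hj
  · exact Finset.surjOn_of_injOn_of_card_le _ hmap hinj le_rfl
  · intro j _
    have : b ^ (j * c) = b ^ ((j * c) % n) := by
      conv_lhs => rw [← Nat.div_add_mod (j * c) n, pow_add, pow_mul, hb, one_pow, one_mul]
    rw [this]

/-- The norm of an element of order prime to `r'` under an element of order `r'` vanishes when
the element of order `r'` acts fixed point freely on such elements. -/
theorem norm_vanish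
    (H1 : ∀ s : ℕ, s.Prime → ∀ w : W, IsEl s w → w ≠ 1 → ∀ u : A,
      Nat.Coprime (orderOf u) s → w • u = u → u = 1)
    {b : W} {r' : ℕ} (hr' : r'.Prime) (hob : orderOf b = r') (v : A)
    (hv : Nat.Coprime (orderOf v) r') : ∏ j ∈ range r', (b ^ j) • v = 1 := by
  have hb1 : b ≠ 1 := by
    rintro rfl
    rw [orderOf_one] at hob
    exact hr'.one_lt.ne hob
  have hbr : b ^ r' = 1 := by rw [← hob, pow_orderOf_eq_one]
  apply H1 r' hr' b (isEl_of_orderOf_eq hob) hb1
  · -- order prime to `r'`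
    have h1 : (∏ j ∈ range r', (b ^ j) • v) ^ orderOf v = 1 := by
      rw [← Finset.prod_pow]
      apply Finset.prod_eq_one
      intro j _
      rw [← smul_pow', pow_orderOf_eq_one, smul_one]
    exact Nat.Coprime.coprime_dvd_left (orderOf_dvd_of_pow_eq_one h1) hv
  · rw [Finset.smul_prod']
    have h2 : ∀ j, b • (b ^ j) • v = (b ^ (j + 1)) • v := by
      intro j
      rw [smul_smul, pow_succ']
    simp only [h2]
    have h3 := Finset.prod_range_succ (fun j => (b ^ j) • v) r'
    have h4 := Finset.prod_range_succ' (fun j => (b ^ j) • v) r'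
    rw [h3] at h4
    simp only [hbr, pow_zero, one_smul] at h4
    exact (mul_right_cancel h4).symm

/-- The norm trick: `a` normalizes the group generated by `b`, without centralizing it. -/
theorem norm_trick {a b : W} {r r' k : ℕ} (hr : r.Prime) (hr' : r'.Prime) (hoa : orderOf a = r)
    (hob : orderOf b = r') (hab : a * b * a⁻¹ = b ^ k) (hnc : ¬ Commute a b)
    (Na : ∀ u : A, ∏ i ∈ range r, (a ^ i) • u = 1)
    (Nb : ∀ v : A, Nat.Coprime (orderOf v) r' → ∏ j ∈ range r', (b ^ j) • v = 1)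
    (v : A) (hv : Nat.Coprime (orderOf v) r') : v ^ r' = 1 := by
  have hbr : b ^ r' = 1 := by rw [← hob, pow_orderOf_eq_one]
  have har : a ^ r = 1 := by rw [← hoa, pow_orderOf_eq_one]
  have hb1 : b ≠ 1 := by
    rintro rfl
    rw [orderOf_one] at hob
    exact hr'.one_lt.ne hob
  -- commutation relation
  have hrel1 : ∀ j : ℕ, a * b ^ j = b ^ (j * k) * a := by
    intro j
    have h1 : a * b ^ j * a⁻¹ = (a * b * a⁻¹) ^ j := by
      rw [conj_pow]
    rw [hab, ← pow_mul, mul_comm k j] at h1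
    rw [mul_inv_eq_iff_eq_mul] at h1
    exact h1
  have hrel : ∀ i j : ℕ, a ^ i * b ^ j = b ^ (j * k ^ i) * a ^ i := by
    intro i
    induction i with
    | zero => intro j; simp
    | succ i ih =>
      intro j
      calc a ^ (i + 1) * b ^ j = a * (a ^ i * b ^ j) := by rw [pow_succ']; group
        _ = a * (b ^ (j * k ^ i) * a ^ i) := by rw [ih]
        _ = (a * b ^ (j * k ^ i)) * a ^ i := by group
        _ = b ^ (j * k ^ i * k) * a * a ^ i := by rw [hrel1]
        _ = b ^ (j * k ^ (i + 1)) * a ^ (i + 1) := by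
          rw [pow_succ' a i, pow_succ k i, mul_assoc (b ^ _) a, mul_assoc j]
  have hk0 : 0 < k := by
    rcases Nat.eq_zero_or_pos k with rfl | h
    · exfalso
      rw [pow_zero] at hab
      apply hb1
      have : a⁻¹ * (a * b * a⁻¹) * a = b := by group
      rw [← this, hab]
      group
    · exact h
  have hkr : k ^ r ≡ 1 [MOD r'] := by
    have h1 := hrel r 1
    rw [har, one_mul, mul_one, pow_one, one_mul] at h1
    have h2 : b ^ (k ^ r) = b ^ 1 := by rw [pow_one]; exact h1.symm
    rw [← hob]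
    exact (pow_eq_pow_iff_modEq).1 h2
  have hk1 : ¬ k ≡ 1 [MOD r'] := by
    intro h
    apply hnc
    have h2 : b ^ k = b ^ 1 := (pow_eq_pow_iff_modEq).2 (by rw [hob]; exact h)
    rw [h2, pow_one, mul_inv_eq_iff_eq_mul] at hab
    exact hab
  have hki : ∀ i, 0 < i → i < r → ¬ k ^ i ≡ 1 [MOD r'] := by
    intro i hi0 hir hi
    have hcop : Nat.Coprime i r := by
      rw [Nat.coprime_comm]
      exact (Nat.Prime.coprime_iff_not_dvd hr).2 (fun h => by
        have := Nat.le_of_dvd hi0 h
        omega)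
    obtain ⟨s, hs⟩ := Nat.exists_mul_mod_eq_one_of_coprime hcop hr.one_lt
    have h1 : (k ^ i) ^ s ≡ 1 [MOD r'] := by
      simpa using hi.pow s
    have h2 : i * s = r * (i * s / r) + 1 := by
      have := Nat.div_add_mod (i * s) r
      rw [hs.2] at this
      exact this.symm
    rw [← pow_mul, h2, pow_add, pow_mul, pow_one] at h1
    have h3 : (k ^ r) ^ (i * s / r) * k ≡ k [MOD r'] := by
      simpa using (hkr.pow (i * s / r)).mul_right k
    exact hk1 (h3.symm.trans h1)
  -- `c i = k ^ i - 1`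
  have hck : ∀ i, k ^ i = k ^ i - 1 + 1 := by
    intro i
    have : 0 < k ^ i := Nat.pow_pos hk0
    omega
  have hj : ∀ j : ℕ, ∏ i ∈ range r, (b ^ (j * (k ^ i - 1))) • (a ^ i • v) = 1 := by
    intro j
    have h1 := Na ((b ^ j) • v)
    have h2 : ∀ i, (a ^ i) • (b ^ j) • v = (b ^ j) • (b ^ (j * (k ^ i - 1))) • (a ^ i • v) := by
      intro i
      have : j + j * (k ^ i - 1) = j * k ^ i := by
        conv_rhs => rw [hck i, mul_add, mul_one]
        ring
      calc (a ^ i) • (b ^ j) • v = (a ^ i * b ^ j) • v := smul_smul _ _ _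
        _ = (b ^ (j * k ^ i) * a ^ i) • v := by rw [hrel]
        _ = (b ^ (j * k ^ i)) • (a ^ i • v) := mul_smul _ _ _
        _ = (b ^ j * b ^ (j * (k ^ i - 1))) • (a ^ i • v) := by rw [← pow_add, this]
        _ = _ := mul_smul _ _ _
    simp only [h2] at h1
    rw [← Finset.smul_prod'] at h1
    have h3 := congrArg (fun x => (b ^ j)⁻¹ • x) h1
    simpa using h3
  have htotal : ∏ j ∈ range r', ∏ i ∈ range r, (b ^ (j * (k ^ i - 1))) • (a ^ i • v) = 1 :=
    Finset.prod_eq_one fun j _ => hj j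
  rw [Finset.prod_comm] at htotal
  obtain ⟨r₀, rfl⟩ : ∃ r₀, r = r₀ + 1 := ⟨r - 1, by have := hr.one_lt; omega⟩
  rw [Finset.prod_range_succ'] at htotal
  have hzero : ∏ j ∈ range r', (b ^ (j * (k ^ 0 - 1))) • (a ^ 0 • v) = v ^ r' := by
    simp
  have hsucc : ∏ i ∈ range r₀, ∏ j ∈ range r', (b ^ (j * (k ^ (i + 1) - 1))) • (a ^ (i + 1) • v)
      = 1 := by
    apply Finset.prod_eq_one
    intro i hi
    have hi' : i + 1 < r₀ + 1 := by
      have := Finset.mem_range.1 hi
      omega
    have h1 := hki (i + 1) (by omega) hi'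
    have hcop : Nat.Coprime (k ^ (i + 1) - 1) r' := by
      rw [Nat.coprime_comm]
      refine (Nat.Prime.coprime_iff_not_dvd hr').2 fun hd => h1 ?_
      have h2 : k ^ (i + 1) = k ^ (i + 1) - 1 + 1 := hck _
      rw [h2]
      have h3 : k ^ (i + 1) - 1 ≡ 0 [MOD r'] := (Nat.modEq_zero_iff_dvd).2 hd
      simpa using h3.add_right 1
    rw [prod_range_mul_reindex hbr hr'.pos hcop]
    apply Nb
    rw [orderOf_smul_eq]
    exact hv
  rw [hsucc, one_mul, hzero] at htotal
  exact htotal

/-- The group acting is a `Z`-group when elements of prime power order act fixed point freely on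
elements of coprime order, and the order is odd. -/
theorem isZGroup_of_H1 {q₁ q₂ : ℕ} (hq₁ : q₁.Prime) (hq₂ : q₂.Prime) (hne : q₁ ≠ q₂)
    (hd₁ : q₁ ∣ Nat.card A) (hd₂ : q₂ ∣ Nat.card A) (hodd : ¬ 2 ∣ Nat.card W)
    (H1 : ∀ s : ℕ, s.Prime → ∀ w : W, IsEl s w → w ≠ 1 → ∀ u : A,
      Nat.Coprime (orderOf u) s → w • u = u → u = 1) : IsZGroup W := by
  refine ⟨fun s hs P => ?_⟩
  haveI : Fact s.Prime := ⟨hs⟩
  by_cases hs2 : s = 2
  · subst hs2
    have h1 : Nat.card P = 1 := by
      rw [Sylow.card_eq_multiplicity, Nat.factorization_eq_zero_of_not_dvd hodd, pow_zero]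
    haveI : Subsingleton P := (Nat.card_eq_one_iff_unique.1 h1).1
    infer_instance
  -- the prime `q`
  obtain ⟨q, hq, hqs, hqd⟩ : ∃ q : ℕ, q.Prime ∧ q ≠ s ∧ q ∣ Nat.card A := by
    by_cases h : q₁ = s
    · exact ⟨q₂, hq₂, fun h' => hne (h.trans h'.symm), hd₂⟩
    · exact ⟨q₁, hq₁, h, hd₁⟩
  let V : Subgroup A := qSub (⊤ : Subgroup A) (fun a _ b _ => mul_comm a b) q
  have hVne : V ≠ ⊥ := qSub_ne_bot hq (by
    rw [Nat.card_congr (Subgroup.topEquiv (G := A)).toEquiv]; exact hqd)
  have hVact : ∀ (w : W) (v : A), v ∈ V → w • v ∈ V := by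
    intro w v hv
    refine ⟨mem_top _, ?_⟩
    obtain ⟨e, he⟩ := hv.2
    exact ⟨e, by rw [← smul_pow', he, smul_one]⟩
  letI act : MulDistribMulAction W V :=
    { smul := fun w v => ⟨w • (v : A), hVact w v v.2⟩
      one_smul := fun v => Subtype.ext (one_smul W (v : A))
      mul_smul := fun a b v => Subtype.ext (mul_smul a b (v : A))
      smul_mul := fun a x y => Subtype.ext (smul_mul' a (x : A) (y : A))
      smul_one := fun a => Subtype.ext (smul_one a) }
  have hP : IsPGroup s P := P.isPGroup'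
  have hno : ∀ E : Subgroup P, Nat.card E = s ^ 2 → (∀ a ∈ E, a ^ s = 1) → False := by
    intro E hE hexp
    letI : MulDistribMulAction E V :=
      MulDistribMulAction.compHom V ((P : Subgroup W).subtype.comp E.subtype)
    have hsub := Frobenius.Norm.subsingleton_of_elementary (A := E) (V := V) (p := s)
      (by
        intro a ha v hv
        have hv' : ((a : P) : W) • (v : A) = v := congrArg Subtype.val hv
        have h1 : IsEl s ((a : P) : W) := by
          obtain ⟨e, he⟩ := hP (a : P)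
          exact ⟨e, congrArg Subtype.val he⟩
        have h2 : ((a : P) : W) ≠ 1 := fun h => ha (Subtype.ext (Subtype.ext h))
        have h3 := H1 s hs _ h1 h2 (v : A) (v.2.2.coprime_of_ne hq hs hqs) hv'
        exact Subtype.ext h3) hE (fun a => Subtype.ext (hexp a a.2))
    haveI : Nontrivial V := (Subgroup.nontrivial_iff_ne_bot V).2 hVne
    exact not_subsingleton V hsub
  rcases Cfsg.Agent.S0016.result s hP
    (Frobenius.SylowFpf.unique_of_no_elementary hP hno) with h | h
  · exact h
  · exact absurd h.1 hs2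

/-- Abstract form of the normalizer lemma. -/
theorem abstractW {r₁ r₂ : ℕ} (hr₁ : r₁.Prime) (hr₂ : r₂.Prime) (hne : r₁ ≠ r₂)
    (hA₁ : r₁ ∣ Nat.card A) (hA₂ : r₂ ∣ Nat.card A) (hW₁ : r₁ ∣ Nat.card W)
    (hW₂ : r₂ ∣ Nat.card W) (hodd : ¬ 2 ∣ Nat.card W)
    (H1 : ∀ s : ℕ, s.Prime → ∀ w : W, IsEl s w → w ≠ 1 → ∀ u : A,
      Nat.Coprime (orderOf u) s → w • u = u → u = 1)
    (H2 : ∀ r : ℕ, r.Prime → ∀ w : W, orderOf w = r → ∀ u : A, ∏ i ∈ range r, (w ^ i) • u = 1)
    (H3 : ∀ a b : W, Commute a b → orderOf a = r₁ → orderOf b = r₂ → False) : False := by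
  haveI := isZGroup_of_H1 (A := A) hr₁ hr₂ hne hA₁ hA₂ hodd H1
  obtain ⟨a, b, k, ho, hab⟩ := exists_pair hr₁ hr₂ hne hW₁ hW₂
  have key : ∀ {r r' : ℕ}, r.Prime → r'.Prime → r ≠ r' → r ∣ Nat.card A → orderOf a = r →
      orderOf b = r' → ¬ Commute a b → False := by
    intro r r' hr hr' hrr hrA hoa hob hnc
    obtain ⟨v, hv⟩ : ∃ v : A, orderOf v = r := by
      haveI : Fact r.Prime := ⟨hr⟩
      exact exists_prime_orderOf_dvd_card' r hrA
    have h1 := norm_trick (A := A) hr hr' hoa hob hab hnc (H2 r hr a hoa)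
      (fun v hv => norm_vanish H1 hr' hob v hv) v
      (by rw [hv]; exact (Nat.coprime_primes hr hr').2 hrr)
    have h2 := orderOf_dvd_of_pow_eq_one h1
    rw [hv] at h2
    exact hrr ((Nat.prime_dvd_prime_iff_eq hr hr').1 h2)
  rcases ho with ⟨hoa, hob⟩ | ⟨hoa, hob⟩
  · by_cases hc : Commute a b
    · exact H3 a b hc hoa hob
    · exact key hr₁ hr₂ hne hA₁ hoa hob hc
  · by_cases hc : Commute a b
    · exact H3 b a hc.symm hob hoa
    · exact key hr₂ hr₁ hne.symm hA₂ hoa hob hc

end Action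

end Cfsg.Agent.Lib.Ito
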