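import Mathlib
import Cfsg.Agent.Lib.Ito.Parts

/-!
# Families of abelian components

`Comps p 𝓜`: a conjugation invariant family of abelian subgroups of order prime to `p`, each of
order divisible by two primes, pairwise trivially intersecting, covering the `p'`-elements, such
that a `p`-element commuting with a nonidentity element of a member centralizes the member.
-/

set_option autoImplicit false
set_option linter.style.haveILetI false
set_option linter.unusedSectionVars false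
set_option linter.unusedVariables false

namespace Cfsg.Agent.Lib.Ito

open Subgroup

variable {X : Type*} [Group X]

/-- Normalizer of a subgroup. -/
abbrev Nm (M : Subgroup X) : Subgroup X := normalizer (M : Set X)

/-- `g` centralizes `M`. -/
def Cz (g : X) (M : Subgroup X) : Prop := ∀ v ∈ M, Commute g v

/-- The abstract family of components. -/
structure Comps (p : ℕ) (𝓜 : Set (Subgroup X)) : Prop where
  ab : ∀ M ∈ 𝓜, ∀ a ∈ M, ∀ b ∈ M, a * b = b * a
  cop : ∀ M ∈ 𝓜, Nat.Coprime (Nat.card M) p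
  two : ∀ M ∈ 𝓜, ∃ q r : ℕ, q.Prime ∧ r.Prime ∧ q ≠ r ∧ q ∣ Nat.card M ∧ r ∣ Nat.card M
  conj : ∀ M ∈ 𝓜, ∀ g : X, conjS g M ∈ 𝓜
  ti : ∀ M ∈ 𝓜, ∀ M' ∈ 𝓜, ∀ v : X, v ≠ 1 → v ∈ M → v ∈ M' → M = M'
  cover : ∀ g : X, g ≠ 1 → Nat.Coprime (orderOf g) p → ∃ M ∈ 𝓜, g ∈ M
  central : ∀ M ∈ 𝓜, ∀ g : X, IsEl p g → ∀ v ∈ M, v ≠ 1 → Commute g v → Cz g M

theorem conj_mem_iff_of_mem_Nm {g : X} {M : Subgroup X} (hg : g ∈ Nm M) {x : X} :
    g * x * g⁻¹ ∈ M ↔ x ∈ M := ((mem_normalizer_iff.1 hg) x).symm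

theorem conj_mem_of_mem_Nm {g : X} {M : Subgroup X} (hg : g ∈ Nm M) {x : X} (hx : x ∈ M) :
    g * x * g⁻¹ ∈ M := (conj_mem_iff_of_mem_Nm hg).2 hx

theorem le_Nm (M : Subgroup X) : M ≤ Nm M := le_normalizer

theorem Cz.commutator_eq {g : X} {M : Subgroup X} (h : Cz g M) {v : X} (hv : v ∈ M) :
    g * v * g⁻¹ = v := by
  rw [(h v hv).eq]; group

theorem Cz.pow {g : X} {M : Subgroup X} (h : Cz g M) (k : ℕ) : Cz (g ^ k) M :=
  fun v hv => (h v hv).pow_left k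

theorem Cz.zpow {g : X} {M : Subgroup X} (h : Cz g M) (k : ℤ) : Cz (g ^ k) M :=
  fun v hv => (h v hv).zpow_left k

theorem Cz.mul {g g' : X} {M : Subgroup X} (h : Cz g M) (h' : Cz g' M) : Cz (g * g') M :=
  fun v hv => (h v hv).mul_left (h' v hv)

theorem Cz.inv {g : X} {M : Subgroup X} (h : Cz g M) : Cz g⁻¹ M :=
  fun v hv => (h v hv).inv_left

theorem cz_of_conj_eq {g : X} {M : Subgroup X} (h : ∀ v ∈ M, g * v * g⁻¹ = v) : Cz g M := by
  intro v hv
  have := h v hv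
  show g * v = v * g
  rw [mul_inv_eq_iff_eq_mul] at this
  exact this

variable [Finite X] {p : ℕ} {𝓜 : Set (Subgroup X)} {M : Subgroup X}

theorem coprime_orderOf_of_mem (hcop : Nat.Coprime (Nat.card M) p) {x : X} (hx : x ∈ M) :
    Nat.Coprime (orderOf x) p :=
  Nat.Coprime.coprime_dvd_left (Subgroup.orderOf_dvd_natCard M hx) hcop

namespace Comps

variable (hC : Comps p 𝓜) (hM : M ∈ 𝓜)
include hC hM

theorem coprime_of_mem {x : X} (hx : x ∈ M) : Nat.Coprime (orderOf x) p :=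
  coprime_orderOf_of_mem (hC.cop M hM) hx

theorem ne_of_dvd (hp : p.Prime) {q : ℕ} (hq : q.Prime) (hd : q ∣ Nat.card M) : q ≠ p := by
  rintro rfl
  have := Nat.Coprime.eq_one_of_dvd (hC.cop M hM).symm hd
  exact hq.one_lt.ne' this

/-- A `q`-element with `q` dividing the order of a member is a `p'`-element. -/
theorem coprime_of_isEl (hp : p.Prime) {q : ℕ} (hq : q.Prime) (hd : q ∣ Nat.card M) {y : X}
    (hy : IsEl q y) : Nat.Coprime (orderOf y) p :=
  hy.coprime_of_ne hq hp (hC.ne_of_dvd hM hp hq hd)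

/-- T1: an element conjugating a nonidentity element of `M` into `M` normalizes `M`. -/
theorem normalizes {v g : X} (hv : v ∈ M) (hv1 : v ≠ 1) (hg : g * v * g⁻¹ ∈ M) : g ∈ Nm M := by
  have hM' := hC.conj M hM g
  have h1 : g * v * g⁻¹ ∈ conjS g M := conj_mem_conjS hv
  have h2 : g * v * g⁻¹ ≠ 1 := by
    intro h
    apply hv1
    have : g⁻¹ * (g * v * g⁻¹) * g = v := by group
    rw [← this, h]
    group
  have h3 : M = conjS g M := hC.ti M hM _ hM' _ h2 hg h1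
  rw [mem_normalizer_iff]
  intro h
  have h4 : g * h * g⁻¹ ∈ conjS g M ↔ h ∈ M := by
    rw [mem_conjS]
    have : g⁻¹ * (g * h * g⁻¹) * g = h := by group
    rw [this]
  rw [← h3] at h4
  exact h4.symm

/-- T1 for commuting elements. -/
theorem normalizes_of_commute {v g : X} (hv : v ∈ M) (hv1 : v ≠ 1) (hc : Commute g v) :
    g ∈ Nm M := by
  apply hC.normalizes hM hv hv1
  rw [hc.eq]
  simpa using hv

/-- T2: a `p'`-element commuting with an element of `M` of coprime order lies in `M`. -/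
theorem mem_of_commute {x y : X} (hx : x ∈ M) (hx1 : x ≠ 1) (hy : Nat.Coprime (orderOf y) p)
    (hc : Commute x y) (hcop : Nat.Coprime (orderOf x) (orderOf y)) : y ∈ M := by
  have h1 : x ∈ zpowers (x * y) := mem_zpowers_mul_left hc hcop
  have h2 : y ∈ zpowers (x * y) := mem_zpowers_mul_right hc hcop
  have h3 : x * y ≠ 1 := by
    intro h
    rw [h, zpowers_one_eq_bot, mem_bot] at h1
    exact hx1 h1
  have h4 : Nat.Coprime (orderOf (x * y)) p :=
    coprime_orderOf_mul hc (hC.coprime_of_mem hM hx) hy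
  obtain ⟨M', hM', hxy⟩ := hC.cover _ h3 h4
  have h5 : zpowers (x * y) ≤ M' := zpowers_le.2 hxy
  have h6 : M = M' := hC.ti M hM M' hM' x hx1 hx (h5 h1)
  rw [h6]
  exact h5 h2

/-- f1: a `p'`-element centralizing `M` lies in `M`. -/
theorem mem_of_cz {w : X} (hw : Nat.Coprime (orderOf w) p) (hc : Cz w M) : w ∈ M := by
  obtain ⟨q, r, hq, hr, hne, hqd, hrd⟩ := hC.two M hM
  obtain ⟨uq, huq, huq2⟩ := exists_el_of_dvd M hq hqd
  obtain ⟨ur, hur, hur2⟩ := exists_el_of_dvd M hr hrd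
  obtain ⟨a, b, ha, hb, hab, hae, hbc⟩ := exists_parts hq w
  have huq1 : uq ≠ 1 := by
    rintro rfl
    rw [orderOf_one] at huq2
    exact hq.one_lt.ne huq2
  have hur1 : ur ≠ 1 := by
    rintro rfl
    rw [orderOf_one] at hur2
    exact hr.one_lt.ne hur2
  have hca : Commute ur a := (commute_of_mem_zpowers ha (hc ur hur)).symm
  have hcb : Commute uq b := (commute_of_mem_zpowers hb (hc uq huq)).symm
  have h1 : a ∈ M := by
    apply hC.mem_of_commute hM hur hur1 (coprime_orderOf_of_mem_zpowers hw ha) hca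
    rw [hur2]
    exact (hae.coprime_of_ne hq hr hne).symm
  have h2 : b ∈ M := by
    apply hC.mem_of_commute hM huq huq1 (coprime_orderOf_of_mem_zpowers hw hb) hcb
    rw [huq2]
    exact hbc.symm
  rw [← hab]
  exact M.mul_mem h1 h2

/-- f2: an `s`-element commuting with a nonidentity element of `M` of order prime to `s`
centralizes `M`. -/
theorem cz_of_commute (hp : p.Prime) {s : ℕ} (hs : s.Prime) {w u : X} (hw : IsEl s w) (hu : u ∈ M)
    (hu1 : u ≠ 1) (hcop : Nat.Coprime (orderOf u) s) (hc : Commute w u) : Cz w M := by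
  by_cases hsp : s = p
  · subst hsp
    exact hC.central M hM w hw u hu hu1 hc
  · have h1 : w ∈ M := by
      apply hC.mem_of_commute hM hu hu1 (hw.coprime_of_ne hs hp hsp) hc.symm
      obtain ⟨e, he⟩ := hw.orderOf_eq hs
      rw [he]
      exact Nat.Coprime.pow_right _ hcop
    exact fun v hv => hC.ab M hM w h1 v hv

/-- A `p'`-element moving `M` lies in another member. -/
theorem exists_other {w : X} (hw : Nat.Coprime (orderOf w) p) (hn : ¬ Cz w M) :
    ∃ M' ∈ 𝓜, w ∈ M' ∧ M' ≠ M ∧ ∀ v, v ∈ M → v ∈ M' → v = 1 := by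
  have h1 : w ≠ 1 := by
    rintro rfl
    exact hn fun v _ => Commute.one_left v
  obtain ⟨M', hM', hwM⟩ := hC.cover w h1 hw
  have hne : M' ≠ M := by
    rintro rfl
    exact hn fun v hv => hC.ab M' hM' w hwM v hv
  refine ⟨M', hM', hwM, hne, fun v hv hv' => ?_⟩
  by_contra hv1
  exact hne (hC.ti M hM M' hM' v hv1 hv hv').symm

end Comps

/-- The iterated conjugation product: `np τ u n = ∏_{i<n} τ^i u τ^{-i}` when the conjugates
commute. -/
def np (τ u : X) : ℕ → X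
  | 0 => 1
  | n + 1 => (τ * np τ u n * τ⁻¹) * u

omit [Finite X] in
theorem np_mem {τ u : X} (hτ : τ ∈ Nm M) (hu : u ∈ M) (n : ℕ) : np τ u n ∈ M := by
  induction n with
  | zero => exact M.one_mem
  | succ n ih => exact M.mul_mem (conj_mem_of_mem_Nm hτ ih) hu

omit [Finite X] in
theorem inv_mul_pow_eq (τ u : X) (n : ℕ) : (τ⁻¹ * u) ^ n = τ⁻¹ ^ n * np τ u n := by
  induction n with
  | zero => simp [np]
  | succ n ih =>
    rw [pow_succ, ih, pow_succ, np]
    group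

omit [Finite X] in
theorem np_succ' (hab : ∀ a ∈ M, ∀ b ∈ M, a * b = b * a) {τ u : X} (hτ : τ ∈ Nm M) (hu : u ∈ M)
    (n : ℕ) : np τ u (n + 1) = np τ u n * (τ ^ n * u * (τ ^ n)⁻¹) := by
  induction n with
  | zero => simp [np]
  | succ n ih =>
    have h1 : np τ u (n + 1 + 1) = (τ * np τ u (n + 1) * τ⁻¹) * u := rfl
    have hpow : τ ^ (n + 1) ∈ Nm M := (Nm M).pow_mem hτ _
    have h2 : τ * (np τ u n * (τ ^ n * u * (τ ^ n)⁻¹)) * τ⁻¹
        = (τ * np τ u n * τ⁻¹) * (τ ^ (n + 1) * u * (τ ^ (n + 1))⁻¹) := by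
      rw [pow_succ']
      group
    calc np τ u (n + 1 + 1) = (τ * np τ u (n + 1) * τ⁻¹) * u := rfl
      _ = (τ * (np τ u n * (τ ^ n * u * (τ ^ n)⁻¹)) * τ⁻¹) * u := by rw [ih]
      _ = ((τ * np τ u n * τ⁻¹) * (τ ^ (n + 1) * u * (τ ^ (n + 1))⁻¹)) * u := by rw [h2]
      _ = ((τ * np τ u n * τ⁻¹) * u) * (τ ^ (n + 1) * u * (τ ^ (n + 1))⁻¹) := by
        rw [mul_assoc, hab _ (conj_mem_of_mem_Nm hpow hu) u hu, ← mul_assoc]
      _ = np τ u (n + 1) * (τ ^ (n + 1) * u * (τ ^ (n + 1))⁻¹) := rfl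

omit [Finite X] in
/-- `τ` fixes the product of `n` conjugates when `τ ^ n` centralizes `u`. -/
theorem conj_np_eq (hab : ∀ a ∈ M, ∀ b ∈ M, a * b = b * a) {τ u : X} (hτ : τ ∈ Nm M) (hu : u ∈ M)
    {n : ℕ} (hn : Commute (τ ^ n) u) : τ * np τ u n * τ⁻¹ = np τ u n := by
  have h1 := np_succ' hab hτ hu n
  have h2 : np τ u (n + 1) = (τ * np τ u n * τ⁻¹) * u := rfl
  have h3 : τ ^ n * u * (τ ^ n)⁻¹ = u := by
    rw [hn.eq]; group
  rw [h3, h2] at h1
  exact mul_right_cancel h1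

namespace Comps

variable (hC : Comps p 𝓜) (hM : M ∈ 𝓜)
include hC hM

/-- Lemma N: the norm of a nontrivial automorphism of prime order vanishes. -/
theorem np_eq_one (hp : p.Prime) {r : ℕ} (hr : r.Prime) {τ : X} (hτ : τ ∈ Nm M) (hrτ : IsEl r τ)
    (hτr : Cz (τ ^ r) M) (hn : ¬ Cz τ M) {u : X} (hu : u ∈ M) : np τ u r = 1 := by
  by_cases hrp : r = p
  · subst hrp
    by_contra h1
    have h2 : Commute τ (np τ u r) := by
      have := conj_np_eq (hC.ab M hM) hτ hu (hτr u hu)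
      rw [mul_inv_eq_iff_eq_mul] at this
      exact this
    exact hn (hC.central M hM τ hrτ _ (np_mem hτ hu r) h1 h2)
  · -- `τ ^ r ∈ M`
    have hτp : Nat.Coprime (orderOf τ) p := hrτ.coprime_of_ne hr hp hrp
    have hτrM : τ ^ r ∈ M := hC.mem_of_cz hM (coprime_orderOf_pow hτp r) hτr
    have key : ∀ u ∈ M, (τ⁻¹ * u) ^ r = 1 := by
      intro u hu
      have hw : (τ⁻¹ * u) ^ r ∈ M := by
        rw [inv_mul_pow_eq, inv_pow]
        exact M.mul_mem (M.inv_mem hτrM) (np_mem hτ hu r)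
      -- the element `τ⁻¹ u` has order prime to `p`
      have hwp : Nat.Coprime (orderOf (τ⁻¹ * u)) p := by
        have h1 : (τ⁻¹ * u) ^ (r * orderOf ((τ⁻¹ * u) ^ r)) = 1 := by
          rw [pow_mul, pow_orderOf_eq_one]
        have h2 := orderOf_dvd_of_pow_eq_one h1
        refine Nat.Coprime.coprime_dvd_left h2 (Nat.Coprime.mul_left ?_ (hC.coprime_of_mem hM hw))
        exact (Nat.coprime_primes hr hp).2 hrp
      have hwn : ¬ Cz (τ⁻¹ * u) M := by
        intro h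
        apply hn
        have h1 : Cz u⁻¹ M := fun v hv => by
          have := hC.ab M hM u⁻¹ (M.inv_mem hu) v hv
          exact this
        have h2 := (h.mul h1).inv
        have h3 : (τ⁻¹ * u * u⁻¹)⁻¹ = τ := by group
        rwa [h3] at h2
      obtain ⟨M', hM', hwM', hne, hti⟩ := hC.exists_other hM hwp hwn
      exact hti _ hw (M'.pow_mem hwM' r)
    have h1 := key 1 M.one_mem
    have h2 : τ⁻¹ ^ r = 1 := by
      simpa using h1
    have h3 := key u hu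
    rw [inv_mul_pow_eq, h2, one_mul] at h3
    exact h3

/-- Case of an involution on `M`: it inverts `M`. -/
theorem inverts (hp : p.Prime) {g : X} (hg : g ∈ Nm M) (h2 : IsEl 2 g) (hg2 : Cz (g ^ 2) M)
    (hn : ¬ Cz g M) {v : X} (hv : v ∈ M) : g * v * g⁻¹ = v⁻¹ := by
  have h := hC.np_eq_one hM hp Nat.prime_two hg h2 hg2 hn hv
  have h1 : np g v 2 = (g * ((g * 1 * g⁻¹) * v) * g⁻¹) * v := rfl
  rw [h1] at h
  have h3 : g * (g * 1 * g⁻¹ * v) * g⁻¹ = g * v * g⁻¹ := by group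
  rw [h3] at h
  exact eq_inv_of_mul_eq_one_left h

/-- Case (A): no commuting pair of primary elements of distinct primes dividing `|M|`, both
moving `M`. -/
theorem no_commuting (hp : p.Prime) {r₁ r₂ : ℕ} (hr₁ : r₁.Prime) (hr₂ : r₂.Prime) (hne : r₁ ≠ r₂)
    (hd₁ : r₁ ∣ Nat.card M) (hd₂ : r₂ ∣ Nat.card M) {h₁ h₂ : X} (hh₁ : h₁ ∈ Nm M)
    (hh₂ : h₂ ∈ Nm M) (hc : Commute h₁ h₂) (he₁ : IsEl r₁ h₁) (he₂ : IsEl r₂ h₂)
    (hn₁ : ¬ Cz h₁ M) (hn₂ : ¬ Cz h₂ M) : False := by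
  have hp₁ := hC.coprime_of_isEl hM hp hr₁ hd₁ he₁
  have hp₂ := hC.coprime_of_isEl hM hp hr₂ hd₂ he₂
  obtain ⟨M₂, hM₂, hh₁M, hne2, hti⟩ := hC.exists_other hM hp₁ hn₁
  have h₁1 : h₁ ≠ 1 := by
    rintro rfl
    exact hn₁ fun v _ => Commute.one_left v
  have hh₂M : h₂ ∈ M₂ :=
    hC.mem_of_commute hM₂ hh₁M h₁1 hp₂ hc (he₁.coprime_of_isEl hr₁ hr₂ hne he₂)
  -- a fixed point
  have hRle : zpowers h₁ ≤ normalizer ((qSub M (hC.ab M hM) r₁ : Subgroup X) : Set X) := by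
    rw [zpowers_le]
    exact qSub_normalizer hh₁
  obtain ⟨z, hzV, hz1, hzfix⟩ := exists_fixed hr₁
    (isPGroup_iff_isEl.2 fun x hx => he₁.of_mem_zpowers hx) isPGroup_qSub
    (qSub_ne_bot hr₁ hd₁) hRle
  have hzM : z ∈ M := hzV.1
  have hzh : h₁ * z * h₁⁻¹ = z := hzfix h₁ (mem_zpowers _)
  have hcz : Commute h₁ z := by
    rw [mul_inv_eq_iff_eq_mul] at hzh
    exact hzh
  have hzN : z ∈ Nm M₂ := hC.normalizes_of_commute hM₂ hh₁M h₁1 hcz.symm
  have hc1 : z * h₂ * z⁻¹ * h₂⁻¹ ∈ M := by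
    have h3 : z * h₂ * z⁻¹ * h₂⁻¹ = z * (h₂ * z⁻¹ * h₂⁻¹) := by group
    rw [h3]
    exact M.mul_mem hzM (conj_mem_of_mem_Nm hh₂ (M.inv_mem hzM))
  have hc2 : z * h₂ * z⁻¹ * h₂⁻¹ ∈ M₂ :=
    M₂.mul_mem (conj_mem_of_mem_Nm hzN hh₂M) (M₂.inv_mem hh₂M)
  have hc3 := hti _ hc1 hc2
  have hc4 : Commute h₂ z := by
    rw [mul_inv_eq_one, mul_inv_eq_iff_eq_mul] at hc3
    exact hc3.symm
  exact hn₂ (hC.cz_of_commute hM hp hr₂ he₂ hzM hz1 (hzV.2.coprime_of_ne hr₁ hr₂ hne) hc4)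

/-- Even case: an element inverting `M` commuting with an odd primary element moving `M` is
impossible. -/
theorem no_inverting (hp : p.Prime) {r : ℕ} (hr : r.Prime) (hr2 : r ≠ 2) (hd : r ∣ Nat.card M)
    {A B : X} (hA2 : IsEl 2 A) (hAinv : ∀ v ∈ M, A * v * A⁻¹ = v⁻¹) (hB : B ∈ Nm M)
    (hBr : IsEl r B) (hc : Commute A B) (hn : ¬ Cz B M) : False := by
  have hpB := hC.coprime_of_isEl hM hp hr hd hBr
  obtain ⟨M₂, hM₂, hBM, hne2, hti⟩ := hC.exists_other hM hpB hn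
  have hB1 : B ≠ 1 := by
    rintro rfl
    exact hn fun v _ => Commute.one_left v
  have hRle : zpowers B ≤ normalizer ((qSub M (hC.ab M hM) r : Subgroup X) : Set X) := by
    rw [zpowers_le]
    exact qSub_normalizer hB
  obtain ⟨z, hzV, hz1, hzfix⟩ := exists_fixed hr
    (isPGroup_iff_isEl.2 fun x hx => hBr.of_mem_zpowers hx) isPGroup_qSub
    (qSub_ne_bot hr hd) hRle
  have hzM : z ∈ M := hzV.1
  have hzh : B * z * B⁻¹ = z := hzfix B (mem_zpowers _)
  have hcz : Commute B z := by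
    rw [mul_inv_eq_iff_eq_mul] at hzh
    exact hzh
  have hzN : z ∈ Nm M₂ := hC.normalizes_of_commute hM₂ hBM hB1 hcz.symm
  have hzr : IsEl r z := hzV.2
  -- `z ^ 2 ≠ 1`
  have hz2 : z ^ 2 ≠ 1 := by
    intro h
    have h1 : orderOf z ∣ 2 := orderOf_dvd_of_pow_eq_one h
    have h2 : Nat.Coprime (orderOf z) 2 := hzr.coprime_of_ne hr Nat.prime_two hr2
    exact hz1 (orderOf_eq_one_iff.1 (Nat.Coprime.eq_one_of_dvd h2 h1))
  have hAz : A * z * A⁻¹ = z⁻¹ := hAinv z hzM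
  by_cases h2p : 2 = p
  · -- `A` is a `p`-element
    subst h2p
    have hAcz : Cz A M₂ := hC.central M₂ hM₂ A hA2 B hBM hB1 hc
    have hzA : Cz (z * A * z⁻¹) M₂ := by
      intro u hu
      have h3 : z⁻¹ * u * z ∈ M₂ := by
        have := conj_mem_of_mem_Nm ((Nm M₂).inv_mem hzN) hu
        simpa using this
      have h4 := hAcz _ h3
      have h5 : z * A * z⁻¹ * u = z * (A * (z⁻¹ * u * z)) * z⁻¹ := by group
      have h6 : u * (z * A * z⁻¹) = z * ((z⁻¹ * u * z) * A) * z⁻¹ := by group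
      show z * A * z⁻¹ * u = u * (z * A * z⁻¹)
      rw [h5, h6, h4.eq]
    have h7 : A⁻¹ * (z * A * z⁻¹) = (z ^ 2)⁻¹ := by
      have h8 : A⁻¹ * z * A = z⁻¹ := by
        have : A⁻¹ * (A * z * A⁻¹) * A = z := by group
        rw [hAz] at this
        have h9 : A⁻¹ * z⁻¹ * A = z := this
        have h10 : (A⁻¹ * z⁻¹ * A)⁻¹ = z⁻¹ := by rw [h9]
        simpa [mul_assoc] using h10
      calc A⁻¹ * (z * A * z⁻¹) = (A⁻¹ * z * A) * z⁻¹ := by group
        _ = (z ^ 2)⁻¹ := by rw [h8]; group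
    have hz2cz : Cz (z ^ 2)⁻¹ M₂ := by
      rw [← h7]
      exact hAcz.inv.mul hzA
    obtain ⟨q, s, hq, hs, hqs, hqd, hsd⟩ := hC.two M₂ hM₂
    obtain ⟨t, ht, htr⟩ : ∃ t : ℕ, t.Prime ∧ t ≠ r ∧ t ∣ Nat.card M₂ := by
      by_cases hqr : q = r
      · exact ⟨s, hs, fun h => hqs (hqr.trans h.symm), hsd⟩
      · exact ⟨q, hq, hqr, hqd⟩
    obtain ⟨htr', htd⟩ := htr
    obtain ⟨u, hu, hu2⟩ := exists_el_of_dvd M₂ ht htd
    have hu1 : u ≠ 1 := by
      rintro rfl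
      rw [orderOf_one] at hu2
      exact ht.one_lt.ne hu2
    have hz2M : (z ^ 2)⁻¹ ∈ M := M.inv_mem (M.pow_mem hzM 2)
    have hz21 : (z ^ 2)⁻¹ ≠ 1 := by
      rw [Ne, inv_eq_one]
      exact hz2
    have huM : u ∈ M := by
      apply hC.mem_of_commute hM hz2M hz21 (hC.coprime_of_mem hM₂ hu) (hz2cz u hu)
      rw [hu2]
      have := (hzr.pow 2).inv
      exact this.coprime_of_ne hr ht (Ne.symm htr')
    exact hu1 (hti u huM hu)
  · -- `A` is a `p'`-element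
    have hAp : Nat.Coprime (orderOf A) p := hA2.coprime_of_ne Nat.prime_two hp h2p
    have hAM : A ∈ M₂ :=
      hC.mem_of_commute hM₂ hBM hB1 hAp hc.symm (hBr.coprime_of_isEl hr Nat.prime_two hr2 hA2)
    have hc1 : z * A * z⁻¹ * A⁻¹ = z ^ 2 := by
      have h3 : A * z⁻¹ * A⁻¹ = z := by
        have h4 : A * z⁻¹ * A⁻¹ = (A * z * A⁻¹)⁻¹ := by group
        rw [h4, hAz, inv_inv]
      calc z * A * z⁻¹ * A⁻¹ = z * (A * z⁻¹ * A⁻¹) := by group
        _ = z ^ 2 := by rw [h3, sq]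
    have hc2 : z ^ 2 ∈ M₂ := by
      rw [← hc1]
      exact M₂.mul_mem (conj_mem_of_mem_Nm hzN hAM) (M₂.inv_mem hAM)
    exact hz2 (hti _ (M.pow_mem hzM 2) hc2)

end Comps

end Cfsg.Agent.Lib.Ito
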