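import Mathlib
import Cfsg.Agent.Lib.Ito.Comps
import Cfsg.Agent.Lib.Ito.AbstractW

/-!
# Lemma W: at most one prime of a component moves it
-/

set_option autoImplicit false
set_option linter.style.haveILetI false
set_option linter.unusedSectionVars false
set_option linter.unusedVariables false

namespace Cfsg.Agent.Lib.Ito

open Subgroup Finset

/-- Commuting primary lifts of commuting primary elements. -/
theorem exists_commuting_lifts {N W : Type*} [Group N] [Finite N] [Group W] (φ : N →* W)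
    (hφ : Function.Surjective φ) {a b : W} (hc : Commute a b) {r₁ r₂ : ℕ} (hr₁ : r₁.Prime)
    (hr₂ : r₂.Prime) (ha : IsEl r₁ a) (hb : IsEl r₂ b) :
    ∃ h₁ h₂ : N, Commute h₁ h₂ ∧ IsEl r₁ h₁ ∧ IsEl r₂ h₂ ∧ φ h₁ = a ^ orderOf b ∧
      φ h₂ = b ^ orderOf a := by
  obtain ⟨n, hn⟩ := hφ (a * b)
  have h1 : φ (n ^ orderOf b) = a ^ orderOf b := by
    rw [map_pow, hn, hc.mul_pow, pow_orderOf_eq_one, mul_one]
  have h2 : φ (n ^ orderOf a) = b ^ orderOf a := by
    rw [map_pow, hn, hc.mul_pow, pow_orderOf_eq_one, one_mul]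
  obtain ⟨x, x', hx, hx', hxx, hxe, hxc⟩ := exists_parts hr₁ (n ^ orderOf b)
  obtain ⟨y, y', hy, hy', hyy, hye, hyc⟩ := exists_parts hr₂ (n ^ orderOf a)
  refine ⟨x, y, ?_, hxe, hye, ?_, ?_⟩
  · have hle1 : zpowers (n ^ orderOf b) ≤ zpowers n := by
      rw [zpowers_le]
      exact (zpowers n).pow_mem (mem_zpowers n) _
    have hle2 : zpowers (n ^ orderOf a) ≤ zpowers n := by
      rw [zpowers_le]
      exact (zpowers n).pow_mem (mem_zpowers n) _
    exact parts_commute (hle1 hx) (hle2 hy)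
  · rw [map_part_left φ hx hx' hxx hxc (by rw [h1]; exact ha.pow _), h1]
  · rw [map_part_left φ hy hy' hyy hyc (by rw [h2]; exact hb.pow _), h2]

variable {X : Type*} [Group X] [Finite X] {p : ℕ} {𝓜 : Set (Subgroup X)} {M : Subgroup X}

theorem normalizerMonoidHom_coe (n : Nm M) (u : M) :
    ((M.normalizerMonoidHom n u : M) : X) = (n : X) * u * (n : X)⁻¹ := rfl

theorem normalizerMonoidHom_eq_one_iff (n : Nm M) :
    M.normalizerMonoidHom n = 1 ↔ Cz (n : X) M := by
  constructor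
  · intro h
    apply cz_of_conj_eq
    intro v hv
    have := normalizerMonoidHom_coe n ⟨v, hv⟩
    rw [h] at this
    exact this.symm
  · intro h
    ext u
    rw [normalizerMonoidHom_coe]
    exact h.commutator_eq u.2

namespace Comps

variable (hC : Comps p 𝓜) (hM : M ∈ 𝓜)
include hC hM

/-- Lemma W. -/
theorem lemmaW (hp : p.Prime) {r₁ r₂ : ℕ} (hr₁ : r₁.Prime) (hr₂ : r₂.Prime) (hne : r₁ ≠ r₂)
    (hd₁ : r₁ ∣ Nat.card M) (hd₂ : r₂ ∣ Nat.card M) {y₁ y₂ : X} (hy₁ : y₁ ∈ Nm M)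
    (he₁ : IsEl r₁ y₁) (hM₁ : y₁ ∉ M) (hy₂ : y₂ ∈ Nm M) (he₂ : IsEl r₂ y₂) (hM₂ : y₂ ∉ M) :
    False := by
  classical
  have hn₁ : ¬ Cz y₁ M := fun h => hM₁ (hC.mem_of_cz hM (hC.coprime_of_isEl hM hp hr₁ hd₁ he₁) h)
  have hn₂ : ¬ Cz y₂ M := fun h => hM₂ (hC.mem_of_cz hM (hC.coprime_of_isEl hM hp hr₂ hd₂ he₂) h)
  let φ : Nm M →* MulAut M := M.normalizerMonoidHom
  let W : Subgroup (MulAut M) := φ.range
  let φ' : Nm M →* W := φ.rangeRestrict
  have hφ' : Function.Surjective φ' := φ.rangeRestrict_surjective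
  have hφ'1 : ∀ n : Nm M, φ' n = 1 ↔ Cz (n : X) M := by
    intro n
    rw [← normalizerMonoidHom_eq_one_iff]
    constructor
    · intro h
      exact congrArg Subtype.val h
    · intro h
      exact Subtype.ext h
  haveI : Finite W := Finite.of_surjective φ' hφ'
  have hφ'c : ∀ (n : Nm M) (u : M), (((φ' n : W) : MulAut M) u : X) = (n : X) * u * (n : X)⁻¹ :=
    fun n u => rfl
  -- lifting primary elements
  have hlift : ∀ (s : ℕ), s.Prime → ∀ w : W, IsEl s w → ∃ τ : Nm M, IsEl s (τ : X) ∧ φ' τ = w := by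
    intro s hs w hw
    obtain ⟨n, hn⟩ := hφ' w
    obtain ⟨a, b, ha, hb, hab, hae, hbc⟩ := exists_parts hs n
    refine ⟨a, hae.map (Nm M).subtype, ?_⟩
    rw [map_part_left φ' ha hb hab hbc (by rw [hn]; exact hw), hn]
  have hW₁ : ∀ {r : ℕ} {y : X}, r.Prime → y ∈ Nm M → IsEl r y → ¬ Cz y M →
      r ∣ Nat.card W := by
    intro r y hr hy he hn
    have h1 : φ' ⟨y, hy⟩ ≠ 1 := fun h => hn ((hφ'1 _).1 h)
    have h2 : IsEl r (φ' ⟨y, hy⟩) := by
      apply IsEl.map
      obtain ⟨e, he⟩ := he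
      exact ⟨e, Subtype.ext he⟩
    obtain ⟨e, he⟩ := h2.orderOf_eq hr
    have he0 : e ≠ 0 := by
      rintro rfl
      rw [pow_zero, orderOf_eq_one_iff] at he
      exact h1 he
    have h3 : r ∣ orderOf (φ' ⟨y, hy⟩) := by
      rw [he]
      exact dvd_pow_self _ he0
    exact h3.trans (orderOf_dvd_natCard _)
  by_cases h2W : 2 ∣ Nat.card W
  · -- even case
    haveI : Fact (Nat.Prime 2) := ⟨Nat.prime_two⟩
    obtain ⟨w, hw⟩ := exists_prime_orderOf_dvd_card' 2 h2W
    have hw1 : w ≠ 1 := by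
      rintro rfl
      rw [orderOf_one] at hw
      omega
    have hw2 : w ^ 2 = 1 := by rw [← hw, pow_orderOf_eq_one]
    obtain ⟨g, hge, hgw⟩ := hlift 2 Nat.prime_two w (isEl_of_orderOf_eq hw)
    have hgn : ¬ Cz (g : X) M := fun h => hw1 (by rw [← hgw]; exact (hφ'1 g).2 h)
    have hg2 : Cz ((g : X) ^ 2) M := by
      have : φ' (g ^ 2) = 1 := by rw [map_pow, hgw, hw2]
      have := (hφ'1 _).1 this
      simpa using this
    have hinv : ∀ v ∈ M, (g : X) * v * (g : X)⁻¹ = v⁻¹ :=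
      fun v hv => hC.inverts hM hp g.2 hge hg2 hgn hv
    -- an odd prime among `r₁`, `r₂`
    obtain ⟨r, y, hr, hr2, hrd, hy, hye, hyn⟩ : ∃ (r : ℕ) (y : X), r.Prime ∧ r ≠ 2 ∧
        r ∣ Nat.card M ∧ y ∈ Nm M ∧ IsEl r y ∧ ¬ Cz y M := by
      by_cases h : r₁ = 2
      · exact ⟨r₂, y₂, hr₂, fun h' => hne (h.trans h'.symm), hd₂, hy₂, he₂, hn₂⟩
      · exact ⟨r₁, y₁, hr₁, h, hd₁, hy₁, he₁, hn₁⟩
    let yb : W := φ' ⟨y, hy⟩
    have hyb1 : yb ≠ 1 := fun h => hyn ((hφ'1 _).1 h)
    have hybe : IsEl r yb := by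
      apply IsEl.map
      obtain ⟨e, he⟩ := hye
      exact ⟨e, Subtype.ext he⟩
    have hwact : ∀ u : M, (((w : W) : MulAut M) u) = u⁻¹ := by
      intro u
      apply Subtype.ext
      rw [← hgw, hφ'c, hinv u u.2]
      rfl
    have hcomm : Commute w yb := by
      apply Subtype.ext
      apply MulEquiv.ext
      intro u
      show ((w : W) : MulAut M) (((yb : W) : MulAut M) u) = ((yb : W) : MulAut M) (((w : W) : MulAut M) u)
      rw [hwact, hwact, map_inv]
    obtain ⟨A, B, hAB, hAe, hBe, hAφ, hBφ⟩ :=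
      exists_commuting_lifts φ' hφ' hcomm Nat.prime_two hr (isEl_of_orderOf_eq hw) hybe
    -- `φ' A = w`
    have hoddy : Nat.Coprime (orderOf yb) 2 := hybe.coprime_of_ne hr Nat.prime_two hr2
    have hAw : φ' A = w := by
      rw [hAφ]
      have hodd : Odd (orderOf yb) := Nat.Coprime.odd_of_right hoddy
      obtain ⟨t, ht⟩ := hodd
      rw [ht, pow_succ, pow_mul, hw2, one_pow, one_mul]
    have hAinv : ∀ v ∈ M, (A : X) * v * (A : X)⁻¹ = v⁻¹ := by
      intro v hv
      have h1 := hφ'c A ⟨v, hv⟩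
      rw [hAw, hwact] at h1
      exact h1.symm
    have hBn : ¬ Cz (B : X) M := by
      intro h
      have h1 : yb ^ orderOf w = 1 := by
        rw [← hBφ]
        exact (hφ'1 B).2 h
      rw [hw] at h1
      have h2 := orderOf_dvd_of_pow_eq_one h1
      exact hyb1 (orderOf_eq_one_iff.1 (Nat.Coprime.eq_one_of_dvd hoddy h2))
    have hAB' : Commute (A : X) (B : X) := congrArg Subtype.val hAB
    exact hC.no_inverting hM hp hr hr2 hrd (hAe.map (Nm M).subtype) hAinv B.2
      (hBe.map (Nm M).subtype) hAB' hBn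
  · -- odd case
    letI cg : CommGroup M :=
      { (inferInstance : Group M) with
        mul_comm := fun a b => Subtype.ext (hC.ab M hM a a.2 b b.2) }
    letI act : MulDistribMulAction W M :=
      { smul := fun w u => ((w : W) : MulAut M) u
        one_smul := fun u => rfl
        mul_smul := fun a b u => rfl
        smul_mul := fun a x y => map_mul ((a : W) : MulAut M) x y
        smul_one := fun a => map_one ((a : W) : MulAut M) }
    have hsmul : ∀ (w : W) (u : M), w • u = ((w : W) : MulAut M) u := fun _ _ => rfl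
    refine abstractW (A := M) (W := W) hr₁ hr₂ hne hd₁ hd₂ (hW₁ hr₁ hy₁ he₁ hn₁)
      (hW₁ hr₂ hy₂ he₂ hn₂) h2W ?_ ?_ ?_
    · -- H1
      intro s hs w hw hw1 u hu hfix
      obtain ⟨τ, hτe, hτw⟩ := hlift s hs w hw
      by_contra hu1
      have hcu : Commute (τ : X) (u : X) := by
        have h1 : (τ : X) * u * (τ : X)⁻¹ = u := by
          rw [← hφ'c τ u, hτw]
          exact congrArg Subtype.val hfix
        rw [mul_inv_eq_iff_eq_mul] at h1
        exact h1
      have hu' : (u : X) ≠ 1 := fun h => hu1 (Subtype.ext h)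
      have hocoe : orderOf (u : X) = orderOf u := Subgroup.orderOf_coe u
      have hcz := hC.cz_of_commute hM hp hs hτe u.2 hu' (by rw [hocoe]; exact hu) hcu
      exact hw1 (by rw [← hτw]; exact (hφ'1 τ).2 hcz)
    · -- H2
      intro r hr w hw u
      obtain ⟨τ, hτe, hτw⟩ := hlift r hr w (isEl_of_orderOf_eq hw)
      have hw1 : w ≠ 1 := by
        rintro rfl
        rw [orderOf_one] at hw
        exact hr.one_lt.ne hw
      have hτn : ¬ Cz (τ : X) M := fun h => hw1 (by rw [← hτw]; exact (hφ'1 τ).2 h)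
      have hτr : Cz ((τ : X) ^ r) M := by
        have : φ' (τ ^ r) = 1 := by rw [map_pow, hτw, ← hw, pow_orderOf_eq_one]
        have := (hφ'1 _).1 this
        simpa using this
      have h1 := hC.np_eq_one hM hp hr τ.2 hτe hτr hτn u.2
      have h2 : ∀ n : ℕ, ((∏ i ∈ range n, (w ^ i) • u : M) : X) = np (τ : X) (u : X) n := by
        intro n
        induction n with
        | zero => simp [np]
        | succ n ih =>
          rw [Finset.prod_range_succ']
          have h3 : ∀ i, (w ^ (i + 1)) • u = w • ((w ^ i) • u) := by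
            intro i
            rw [pow_succ', mul_smul]
          simp only [h3, pow_zero, one_smul]
          rw [← Finset.smul_prod']
          have h4 : ((w • (∏ i ∈ range n, (w ^ i) • u) * u : M) : X)
              = ((w • (∏ i ∈ range n, (w ^ i) • u) : M) : X) * (u : X) := rfl
          have h5 : ∀ P : M, ((w • P : M) : X) = (τ : X) * P * (τ : X)⁻¹ := fun P => by
            rw [hsmul, ← hτw, hφ'c]
          rw [h4, h5, ih]
          rfl
      apply Subtype.ext
      rw [h2, h1]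
      rfl
    · -- H3
      intro a b hab hoa hob
      obtain ⟨h₁, h₂, hc, he₁', he₂', hφ₁, hφ₂⟩ :=
        exists_commuting_lifts φ' hφ' hab hr₁ hr₂ (isEl_of_orderOf_eq hoa) (isEl_of_orderOf_eq hob)
      rw [hob] at hφ₁
      rw [hoa] at hφ₂
      have hn1 : ¬ Cz (h₁ : X) M := by
        intro h
        have h3 : a ^ r₂ = 1 := by rw [← hφ₁]; exact (hφ'1 h₁).2 h
        have h4 := orderOf_dvd_of_pow_eq_one h3
        rw [hoa] at h4
        exact hne ((Nat.prime_dvd_prime_iff_eq hr₁ hr₂).1 h4)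
      have hn2 : ¬ Cz (h₂ : X) M := by
        intro h
        have h3 : b ^ r₁ = 1 := by rw [← hφ₂]; exact (hφ'1 h₂).2 h
        have h4 := orderOf_dvd_of_pow_eq_one h3
        rw [hob] at h4
        exact hne ((Nat.prime_dvd_prime_iff_eq hr₂ hr₁).1 h4).symm
      exact hC.no_commuting hM hp hr₁ hr₂ hne hd₁ hd₂ h₁.2 h₂.2 (congrArg Subtype.val hc)
        (he₁'.map (Nm M).subtype) (he₂'.map (Nm M).subtype) hn1 hn2

end Comps

end Cfsg.Agent.Lib.Ito
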