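import Mathlib
import Cfsg.Agent.Lib.Ito.LemmaW

/-!
# Sylow subgroups and components: conjugacy of components of the same order
-/

set_option autoImplicit false
set_option linter.style.haveILetI false
set_option linter.unusedSectionVars false
set_option linter.unusedVariables false

namespace Cfsg.Agent.Lib.Ito

open Subgroup

variable {X : Type*} [Group X] [Finite X] {p : ℕ} {𝓜 : Set (Subgroup X)} {M : Subgroup X}

/-- A subgroup of index prime to `r` contains a Sylow `r`-subgroup. -/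
theorem exists_sylow_le_of_not_dvd' {r : ℕ} [Fact r.Prime] (H : Subgroup X) (h : ¬ r ∣ H.index) :
    ∃ S : Sylow r X, (S : Subgroup X) ≤ H := by
  obtain ⟨Q⟩ : Nonempty (Sylow r ↥H) := inferInstance
  have hQ : IsPGroup r ((Q : Subgroup ↥H).map H.subtype) := Q.isPGroup'.map _
  have hi : ¬ r ∣ ((Q : Subgroup ↥H).map H.subtype).index := by
    rw [Subgroup.index_map_subtype]
    intro hd
    rcases (Nat.Prime.dvd_mul Fact.out).mp hd with h1 | h1
    · exact Q.not_dvd_index h1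
    · exact h h1
  refine ⟨hQ.toSylow hi, ?_⟩
  show (Q : Subgroup ↥H).map H.subtype ≤ H
  exact Subgroup.map_subtype_le _

theorem not_dvd_index_of_sylow_le {r : ℕ} [Fact r.Prime] {H : Subgroup X} (S : Sylow r X)
    (h : (S : Subgroup X) ≤ H) : ¬ r ∣ H.index :=
  fun hd => S.not_dvd_index (hd.trans (Subgroup.index_dvd_of_le h))

theorem isEl_of_mem_sylow {r : ℕ} (S : Sylow r X) {x : X} (hx : x ∈ S) : IsEl r x :=
  isPGroup_iff_isEl.1 S.isPGroup' x hx

/-- A number all of whose prime divisors equal `p0` is a power of `p0`. -/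
theorem exists_eq_pow_of_primes {n p0 : ℕ} (hn : n ≠ 0)
    (h : ∀ d : ℕ, d.Prime → d ∣ n → d = p0) : ∃ e, n = p0 ^ e :=
  ⟨_, Nat.eq_prime_pow_of_unique_prime_dvd hn (fun {d} hd hdn => h d hd hdn)⟩

namespace Comps

variable (hC : Comps p 𝓜)
include hC

/-- A Sylow subgroup for a prime other than `p` normalizes a member whose order it divides. -/
theorem exists_normalizing (hp : p.Prime) {q : ℕ} (hq : q.Prime) (hqp : q ≠ p)
    (hd : q ∣ Nat.card X) (Q : Sylow q X) :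
    ∃ M ∈ 𝓜, (Q : Subgroup X) ≤ Nm M ∧ q ∣ Nat.card M := by
  haveI : Fact q.Prime := ⟨hq⟩
  have hQ : IsPGroup q (Q : Subgroup X) := Q.isPGroup'
  have hcard : Nat.card Q = q ^ (Nat.card X).factorization q := Sylow.card_eq_multiplicity Q
  haveI : Nontrivial Q := by
    rw [← Finite.one_lt_card_iff_nontrivial, hcard]
    have h1 := (hq.dvd_iff_one_le_factorization Nat.card_pos.ne').1 hd
    exact Nat.one_lt_pow (by omega) hq.one_lt
  haveI : Nontrivial (Subgroup.center Q) := hQ.center_nontrivial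
  obtain ⟨z, hz⟩ := exists_ne (1 : Subgroup.center Q)
  have hz1 : ((z : Q) : X) ≠ 1 := fun h => hz (Subtype.ext (Subtype.ext h))
  have hze : IsEl q ((z : Q) : X) := isEl_of_mem_sylow Q (z : Q).2
  obtain ⟨M, hM, hzM⟩ := hC.cover _ hz1 (hze.coprime_of_ne hq hp hqp)
  refine ⟨M, hM, ?_, ?_⟩
  · intro w hw
    apply hC.normalizes_of_commute hM hzM hz1
    have := (Subgroup.mem_center_iff.1 z.2) ⟨w, hw⟩
    exact (congrArg Subtype.val this)
  · obtain ⟨e, he⟩ := hze.orderOf_eq hq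
    have he0 : e ≠ 0 := by
      rintro rfl
      rw [pow_zero, orderOf_eq_one_iff] at he
      exact hz1 he
    have h1 : q ∣ orderOf ((z : Q) : X) := by
      rw [he]
      exact dvd_pow_self _ he0
    exact h1.trans (Subgroup.orderOf_dvd_natCard M hzM)

/-- L2: a `q`-subgroup normalizing `M` is small. -/
theorem card_lt_of_normalizes (hp : p.Prime) {q q' : ℕ} (hq : q.Prime) (hq' : q'.Prime)
    (hne : q ≠ q') (hqp : q ≠ p) (hM : M ∈ 𝓜) (hd' : q' ∣ Nat.card M) (Q : Subgroup X)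
    (hQ : IsPGroup q Q) (hQN : Q ≤ Nm M) :
    Nat.card Q < q ^ (Nat.card M).factorization q * q' ^ (Nat.card M).factorization q' := by
  classical
  have hab := hC.ab M hM
  obtain ⟨u, huM, hu2⟩ := exists_el_of_dvd M hq' hd'
  have hu1 : u ≠ 1 := by
    rintro rfl
    rw [orderOf_one] at hu2
    exact hq'.one_lt.ne hu2
  let V : Subgroup X := qSub M hab q'
  have hVcard : Nat.card V = q' ^ (Nat.card M).factorization q' := card_qSub hq'
  let S : Subgroup Q := M.subgroupOf Q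
  -- `S` is a `q`-group inside `M`
  have hScard : Nat.card S ≤ q ^ (Nat.card M).factorization q := by
    rw [← card_qSub (M := M) (hab := hab) hq]
    refine Nat.card_le_card_of_injective
      (fun x : S => (⟨((x : Q) : X), x.2, isPGroup_iff_isEl.1 hQ _ (x : Q).2⟩ : qSub M hab q)) ?_
    intro x y h
    have h' : ((x : Q) : X) = ((y : Q) : X) := congrArg (fun t : qSub M hab q => (t : X)) h
    exact Subtype.ext (Subtype.ext h')
  -- the orbit map
  have hact : ∀ w : Q, (w : X) * u * (w : X)⁻¹ ∈ V := fun w =>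
    ⟨conj_mem_of_mem_Nm (hQN w.2) huM, (isEl_of_orderOf_eq hu2).conj _⟩
  let f : (Q ⧸ S) → {v : V // v ≠ 1} := fun c =>
    ⟨⟨(c.out : X) * u * (c.out : X)⁻¹, hact c.out⟩, by
      intro h
      have h1 : (c.out : X) * u * (c.out : X)⁻¹ = 1 := congrArg Subtype.val h
      apply hu1
      have h2 : (c.out : X)⁻¹ * ((c.out : X) * u * (c.out : X)⁻¹) * (c.out : X) = u := by group
      rw [← h2, h1]
      group⟩
  have hf : Function.Injective f := by
    intro c d h
    have h1 : (c.out : X) * u * (c.out : X)⁻¹ = (d.out : X) * u * (d.out : X)⁻¹ :=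
      congrArg (fun v : {v : V // v ≠ 1} => ((v : V) : X)) h
    -- `c.out⁻¹ * d.out` centralizes `u`
    have h2 : Commute (((c.out)⁻¹ * d.out : Q) : X) u := by
      show ((c.out : X)⁻¹ * (d.out : X)) * u = u * ((c.out : X)⁻¹ * (d.out : X))
      have h3 : (d.out : X) * u = (c.out : X) * u * (c.out : X)⁻¹ * (d.out : X) := by
        rw [h1]; group
      calc ((c.out : X)⁻¹ * (d.out : X)) * u = (c.out : X)⁻¹ * ((d.out : X) * u) := by group
        _ = (c.out : X)⁻¹ * ((c.out : X) * u * (c.out : X)⁻¹ * (d.out : X)) := by rw [h3]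
        _ = u * ((c.out : X)⁻¹ * (d.out : X)) := by group
    have h4 : IsEl q (((c.out)⁻¹ * d.out : Q) : X) :=
      isPGroup_iff_isEl.1 hQ _ ((c.out)⁻¹ * d.out : Q).2
    have h5 : Cz (((c.out)⁻¹ * d.out : Q) : X) M := hC.cz_of_commute hM hp hq h4 huM hu1
      (by rw [hu2]; exact (Nat.coprime_primes hq' hq).2 hne.symm) h2
    have h6 : (((c.out)⁻¹ * d.out : Q) : X) ∈ M :=
      hC.mem_of_cz hM (h4.coprime_of_ne hq hp hqp) h5
    have h7 : (c.out)⁻¹ * d.out ∈ S := h6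
    have h8 : (c.out : Q ⧸ S) = (d.out : Q ⧸ S) := QuotientGroup.eq.2 h7
    rwa [QuotientGroup.out_eq', QuotientGroup.out_eq'] at h8
  have h1 : S.index ≤ Nat.card {v : V // v ≠ 1} := by
    rw [Subgroup.index_eq_card]
    exact Nat.card_le_card_of_injective f hf
  have h2 : Nat.card {v : V // v ≠ 1} + 1 = Nat.card V := by
    have h3 : Nat.card {h : V // h = 1} + Nat.card {h : V // ¬ h = 1} = Nat.card V := by
      rw [← Nat.card_sum]
      exact Nat.card_congr (Equiv.sumCompl (fun h : V => h = 1))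
    have h4 : Nat.card {h : V // h = 1} = 1 := by
      rw [Nat.card_unique]
    have h5 : Nat.card {v : V // v ≠ 1} = Nat.card {h : V // ¬ h = 1} := rfl
    omega
  have h3 : Nat.card Q = Nat.card S * S.index := (Subgroup.card_mul_index S).symm
  rw [h3, ← hVcard]
  have hSpos : 0 < q ^ (Nat.card M).factorization q := Nat.pow_pos hq.pos
  calc Nat.card S * S.index ≤ q ^ (Nat.card M).factorization q * S.index :=
        Nat.mul_le_mul_right _ hScard
    _ < q ^ (Nat.card M).factorization q * Nat.card V :=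
        Nat.mul_lt_mul_of_pos_left (by omega) hSpos

/-- L1: two non-conjugate members of the same order. -/
theorem sq_le_of_not_conj {q : ℕ} (hq : q.Prime) {M₁ M₂ : Subgroup X} (hM₁ : M₁ ∈ 𝓜) (hM₂ : M₂ ∈ 𝓜)
    (hcard : Nat.card M₁ = Nat.card M₂) (hnc : ∀ g : X, M₂ ≠ conjS g M₁) :
    (q ^ (Nat.card M₁).factorization q) * (q ^ (Nat.card M₁).factorization q)
      ≤ q ^ (Nat.card X).factorization q := by
  classical
  haveI : Fact q.Prime := ⟨hq⟩
  have hab₁ := hC.ab M₁ hM₁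
  have hab₂ := hC.ab M₂ hM₂
  let P₁ : Subgroup X := qSub M₁ hab₁ q
  let P₂ : Subgroup X := qSub M₂ hab₂ q
  obtain ⟨Q, hQ⟩ := (isPGroup_qSub (M := M₁) (hab := hab₁) (q := q)).exists_le_sylow
  obtain ⟨Q', hQ'⟩ := (isPGroup_qSub (M := M₂) (hab := hab₂) (q := q)).exists_le_sylow
  obtain ⟨g, hg⟩ := MulAction.exists_smul_eq X Q' Q
  let P₃ : Subgroup X := conjS g P₂
  have hP₃Q : P₃ ≤ Q := by
    rintro x ⟨y, hy, rfl⟩
    rw [← hg]
    exact Subgroup.mem_map_of_mem _ (hQ' hy)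
  have hdis : ∀ x, x ∈ P₁ → x ∈ P₃ → x = 1 := by
    intro x hx1 hx3
    by_contra hx
    have h1 : x ∈ conjS g M₂ := by
      rw [mem_conjS]
      exact (mem_conjS.1 hx3).1
    have h2 : M₁ = conjS g M₂ := hC.ti M₁ hM₁ _ (hC.conj M₂ hM₂ g) x hx hx1.1 h1
    apply hnc g⁻¹
    rw [h2]
    ext y
    rw [mem_conjS, mem_conjS]
    simp [mul_assoc]
  have hP₃card : Nat.card P₃ = q ^ (Nat.card M₁).factorization q := by
    rw [card_conjS]
    show Nat.card (qSub M₂ hab₂ q) = _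
    rw [card_qSub hq, hcard]
  have hP₁card : Nat.card P₁ = q ^ (Nat.card M₁).factorization q := card_qSub hq
  rw [← Sylow.card_eq_multiplicity Q]
  have hprod : (q ^ (Nat.card M₁).factorization q) * (q ^ (Nat.card M₁).factorization q)
      = Nat.card P₁ * Nat.card P₃ := by rw [hP₁card, hP₃card]
  rw [hprod, ← Nat.card_prod]
  refine Nat.card_le_card_of_injective
    (fun x : P₁ × P₃ => (⟨(x.1 : X) * x.2, Q.mul_mem (hQ x.1.2) (hP₃Q x.2.2)⟩ : Q)) ?_
  rintro ⟨a, b⟩ ⟨a', b'⟩ h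
  have h1 : (a : X) * b = a' * b' := congrArg Subtype.val h
  have h2 : (a' : X)⁻¹ * a = b' * (b : X)⁻¹ := by
    calc (a' : X)⁻¹ * a = (a' : X)⁻¹ * ((a : X) * b) * (b : X)⁻¹ := by group
      _ = (a' : X)⁻¹ * ((a' : X) * b') * (b : X)⁻¹ := by rw [h1]
      _ = b' * (b : X)⁻¹ := by group
  have h3 : (a' : X)⁻¹ * a = 1 := hdis _ (P₁.mul_mem (P₁.inv_mem a'.2) a.2)
    (by rw [h2]; exact P₃.mul_mem b'.2 (P₃.inv_mem b.2))
  have h4 : (a : X) = a' := by
    rw [inv_mul_eq_one] at h3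
    exact h3.symm
  have h5 : (b : X) = b' := by
    rw [h4] at h1
    exact mul_left_cancel h1
  exact Prod.ext (Subtype.ext h4) (Subtype.ext h5)

/-- Chain: two primes whose Sylow subgroups normalize members of order `A` force all members of
order `A` to be conjugate. -/
theorem chain (hp : p.Prime) {A q q' : ℕ} (hq : q.Prime) (hq' : q'.Prime) (hne : q ≠ q')
    {M M' : Subgroup X} (hM : M ∈ 𝓜) (hM' : M' ∈ 𝓜) (hcard : Nat.card M = A)
    (hcard' : Nat.card M' = A) (Q : Sylow q X) (Q' : Sylow q' X) (hQ : (Q : Subgroup X) ≤ Nm M)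
    (hQ' : (Q' : Subgroup X) ≤ Nm M') (hd : q ∣ A) (hd' : q' ∣ A) {M₁ M₂ : Subgroup X}
    (hM₁ : M₁ ∈ 𝓜) (hM₂ : M₂ ∈ 𝓜) (h₁ : Nat.card M₁ = A) (h₂ : Nat.card M₂ = A) :
    ∃ g : X, M₂ = conjS g M₁ := by
  by_contra hcon
  push Not at hcon
  haveI : Fact q.Prime := ⟨hq⟩
  haveI : Fact q'.Prime := ⟨hq'⟩
  have hqp : q ≠ p := hC.ne_of_dvd hM hp hq (hcard ▸ hd)
  have hqp' : q' ≠ p := hC.ne_of_dvd hM' hp hq' (hcard' ▸ hd')
  have l1 := hC.sq_le_of_not_conj hq hM₁ hM₂ (h₁.trans h₂.symm) hcon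
  have l1' := hC.sq_le_of_not_conj hq' hM₁ hM₂ (h₁.trans h₂.symm) hcon
  have l2 := hC.card_lt_of_normalizes hp hq hq' hne hqp hM (hcard ▸ hd') Q Q.isPGroup' hQ
  have l2' := hC.card_lt_of_normalizes hp hq' hq hne.symm hqp' hM' (hcard' ▸ hd) Q' Q'.isPGroup' hQ'
  rw [Sylow.card_eq_multiplicity, hcard] at l2
  rw [Sylow.card_eq_multiplicity, hcard'] at l2'
  rw [h₁] at l1 l1'
  set a := q ^ A.factorization q
  set b := q' ^ A.factorization q'
  have h3 := lt_of_le_of_lt l1 l2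
  have h4 := lt_of_le_of_lt l1' l2'
  have h5 : a < b := Nat.lt_of_mul_lt_mul_left h3
  have h6 : b < a := Nat.lt_of_mul_lt_mul_left h4
  omega

/-- If all members have the same order, they are all conjugate. -/
theorem all_conj_of_same_order (hp : p.Prime) (hsame : ∀ M ∈ 𝓜, ∀ M' ∈ 𝓜, Nat.card M = Nat.card M')
    {M₁ M₂ : Subgroup X} (hM₁ : M₁ ∈ 𝓜) (hM₂ : M₂ ∈ 𝓜) : ∃ g : X, M₂ = conjS g M₁ := by
  obtain ⟨q, r, hq, hr, hne, hqd, hrd⟩ := hC.two M₁ hM₁
  haveI : Fact q.Prime := ⟨hq⟩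
  haveI : Fact r.Prime := ⟨hr⟩
  have hqX : q ∣ Nat.card X := hqd.trans (Subgroup.card_subgroup_dvd_card M₁)
  have hrX : r ∣ Nat.card X := hrd.trans (Subgroup.card_subgroup_dvd_card M₁)
  obtain ⟨Q⟩ : Nonempty (Sylow q X) := inferInstance
  obtain ⟨R⟩ : Nonempty (Sylow r X) := inferInstance
  obtain ⟨M, hM, hQ, -⟩ := hC.exists_normalizing hp hq (hC.ne_of_dvd hM₁ hp hq hqd) hqX Q
  obtain ⟨M', hM', hR, -⟩ := hC.exists_normalizing hp hr (hC.ne_of_dvd hM₁ hp hr hrd) hrX R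
  exact hC.chain hp hq hr hne hM hM' (hsame M hM M₁ hM₁) (hsame M' hM' M₁ hM₁) Q R hQ hR hqd hrd
    hM₁ hM₂ rfl (hsame M₂ hM₂ M₁ hM₁)

/-- Lemma Exo. -/
theorem exo (hp : p.Prime) (hM : M ∈ 𝓜) {p0 : ℕ} (hp0 : p0.Prime) (hN : ∃ e, (Nm M).index = p0 ^ e)
    (hall : ∀ q : ℕ, q.Prime → q ≠ p0 → q ∣ Nat.card X → q ∣ Nat.card M) :
    (∃ e, M.index = p0 ^ e) ∨ (∃ (r : ℕ) (z y : X), r.Prime ∧ r ≠ p0 ∧ r ∣ Nat.card M ∧ z ∈ M ∧
      z ≠ 1 ∧ IsEl r z ∧ (∃ e, (Subgroup.centralizer ({z} : Set X)).index = p0 ^ e) ∧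
      y ∈ Nm M ∧ IsEl r y ∧ y ∉ M) := by
  classical
  -- every exotic prime has a Sylow subgroup in the normalizer, not in `M`
  have hex : ∀ r : ℕ, r.Prime → r ≠ p0 → r ∣ M.index → r ∣ Nat.card M ∧
      ∃ R : Sylow r X, (R : Subgroup X) ≤ Nm M ∧ ∃ y ∈ (R : Subgroup X), y ∉ M := by
    intro r hr hr0 hd
    haveI : Fact r.Prime := ⟨hr⟩
    have hrX : r ∣ Nat.card X := hd.trans (Subgroup.index_dvd_card M)
    refine ⟨hall r hr hr0 hrX, ?_⟩
    have hnd : ¬ r ∣ (Nm M).index := by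
      obtain ⟨e, he⟩ := hN
      rw [he]
      intro h
      exact hr0 ((Nat.prime_dvd_prime_iff_eq hr hp0).1 (hr.dvd_of_dvd_pow h))
    obtain ⟨R, hR⟩ := exists_sylow_le_of_not_dvd' (Nm M) hnd
    refine ⟨R, hR, ?_⟩
    by_contra hcon
    push Not at hcon
    exact not_dvd_index_of_sylow_le R hcon hd
  by_cases hone : ∀ r : ℕ, r.Prime → r ∣ M.index → r = p0
  · left
    obtain ⟨e, he⟩ := exists_eq_pow_of_primes Subgroup.index_ne_zero_of_finite hone
    exact ⟨e, he⟩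
  push Not at hone
  obtain ⟨r, hr, hrd, hr0⟩ := hone
  right
  haveI : Fact r.Prime := ⟨hr⟩
  obtain ⟨hrM, R, hR, y, hyR, hyM⟩ := hex r hr hr0 hrd
  -- uniqueness of the exotic prime
  have huniq : ∀ d : ℕ, d.Prime → d ≠ p0 → d ∣ M.index → d = r := by
    intro d hd hd0 hdd
    by_contra hdr
    obtain ⟨hdM, D, hD, y', hy'D, hy'M⟩ := hex d hd hd0 hdd
    exact hC.lemmaW hM hp hd hr hdr hdM hrM (hD hy'D) (isEl_of_mem_sylow D hy'D) hy'M (hR hyR)
      (isEl_of_mem_sylow R hyR) hyM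
  have hab := hC.ab M hM
  have hRle : (R : Subgroup X) ≤ normalizer ((qSub M hab r : Subgroup X) : Set X) :=
    fun w hw => qSub_normalizer (hR hw)
  obtain ⟨z, hzV, hz1, hzfix⟩ := exists_fixed hr R.isPGroup' isPGroup_qSub (qSub_ne_bot hr hrM) hRle
  refine ⟨r, z, y, hr, hr0, hrM, hzV.1, hz1, hzV.2, ?_, hR hyR, isEl_of_mem_sylow R hyR, hyM⟩
  have hMle : M ≤ Subgroup.centralizer ({z} : Set X) := by
    intro a ha
    rw [Subgroup.mem_centralizer_singleton_iff]
    exact hab a ha z hzV.1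
  have hRle2 : (R : Subgroup X) ≤ Subgroup.centralizer ({z} : Set X) := by
    intro w hw
    rw [Subgroup.mem_centralizer_singleton_iff]
    have := hzfix w hw
    rwa [mul_inv_eq_iff_eq_mul] at this
  obtain ⟨e, he⟩ := exists_eq_pow_of_primes (n := (Subgroup.centralizer ({z} : Set X)).index)
    (p0 := p0) Subgroup.index_ne_zero_of_finite (by
      intro d hd hdd
      by_contra hd0
      have h1 : d ∣ M.index := hdd.trans (Subgroup.index_dvd_of_le hMle)
      have h2 := huniq d hd hd0 h1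
      subst h2
      exact not_dvd_index_of_sylow_le R hRle2 hdd)
  exact ⟨e, he⟩

end Comps

end Cfsg.Agent.Lib.Ito
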