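import Mathlib
import Cfsg.Agent.Lib.Ito.Chain
import Cfsg.Agent.Lib.Char.Kazarin
import Cfsg.Agent.Lib.Basic.PCore

/-!
# The star theorem: components of one order have prime power index
-/

set_option autoImplicit false
set_option linter.style.haveILetI false
set_option linter.unusedSectionVars false
set_option linter.unusedVariables false

namespace Cfsg.Agent.Lib.Ito

open Subgroup Cfsg Cfsg.Agent.Lib.Char.Kazarin

variable {X : Type*} [Group X] [Finite X] {p : ℕ} {𝓜 : Set (Subgroup X)} {M : Subgroup X}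

/-- Sylow lifting modulo a normal `p`-subgroup: `r`-elements congruent modulo `P0` are conjugate
into each other's cyclic group by an element of `P0`. -/
theorem sylow_lift {P0 : Subgroup X} [P0.Normal] (hp : p.Prime) (hP0 : IsPGroup p P0) {r : ℕ}
    (hr : r.Prime) (hrp : r ≠ p) {a b : X} (ha : IsEl r a) (hb : IsEl r b) (hab : a⁻¹ * b ∈ P0) :
    ∃ c ∈ P0, c * a * c⁻¹ ∈ zpowers b := by
  haveI : Fact r.Prime := ⟨hr⟩
  haveI : Fact p.Prime := ⟨hp⟩
  let H : Subgroup X := P0 ⊔ zpowers b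
  have hbH : b ∈ H := (le_sup_right : zpowers b ≤ H) (mem_zpowers b)
  have haH : a ∈ H := by
    have h1 : a = b * (a⁻¹ * b)⁻¹ := by group
    rw [h1]
    exact H.mul_mem hbH (H.inv_mem ((le_sup_left : P0 ≤ H) hab))
  let B : Subgroup H := (zpowers b).subgroupOf H
  let A : Subgroup H := (zpowers a).subgroupOf H
  have hB : IsPGroup r B := by
    rintro ⟨x, hx⟩
    obtain ⟨e, he⟩ := hb.of_mem_zpowers (show (x : X) ∈ zpowers b from hx)
    exact ⟨e, Subtype.ext (Subtype.ext he)⟩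
  have hA : IsPGroup r A := by
    rintro ⟨x, hx⟩
    obtain ⟨e, he⟩ := ha.of_mem_zpowers (show (x : X) ∈ zpowers a from hx)
    exact ⟨e, Subtype.ext (Subtype.ext he)⟩
  -- the index of `B` in `H`
  have hdisj : P0 ⊓ zpowers b = ⊥ := by
    rw [eq_bot_iff]
    rintro x ⟨hx1, hx2⟩
    have h1 : IsEl p x := isPGroup_iff_isEl.1 hP0 x hx1
    have h2 : IsEl r x := hb.of_mem_zpowers hx2
    exact h1.eq_one_of_isEl hp hr (Ne.symm hrp) h2
  have hrel : P0.relIndex H = Nat.card (zpowers b) := by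
    show P0.relIndex (P0 ⊔ zpowers b) = _
    rw [relIndex_sup_left, ← inf_relIndex_right, hdisj, relIndex_bot_left]
  have hHcard : Nat.card H = Nat.card (zpowers b) * Nat.card P0 := by
    rw [← hrel]
    have h1 := Subgroup.card_mul_index (P0.subgroupOf H)
    have h2 : Nat.card (P0.subgroupOf H) = Nat.card P0 :=
      Nat.card_congr (subgroupOfEquivOfLe (le_sup_left : P0 ≤ H)).toEquiv
    rw [h2] at h1
    rw [← h1, mul_comm]
    rfl
  have hBcard : Nat.card B = Nat.card (zpowers b) :=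
    Nat.card_congr (subgroupOfEquivOfLe ((le_sup_right : zpowers b ≤ H))).toEquiv
  have hidx : B.index = Nat.card P0 := by
    have h1 := Subgroup.card_mul_index B
    rw [hBcard, hHcard] at h1
    exact Nat.eq_of_mul_eq_mul_left Nat.card_pos h1
  have hnd : ¬ r ∣ B.index := by
    rw [hidx]
    obtain ⟨k, hk⟩ := IsPGroup.iff_card.1 hP0
    rw [hk]
    intro h
    exact hrp ((Nat.prime_dvd_prime_iff_eq hr hp).1 (hr.dvd_of_dvd_pow h))
  let S : Sylow r H := hB.toSylow hnd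
  obtain ⟨S', hS'⟩ := hA.exists_le_sylow
  obtain ⟨g, hg⟩ := MulAction.exists_smul_eq H S S'
  have ha' : (⟨a, haH⟩ : H) ∈ (S' : Subgroup H) := hS' (show a ∈ zpowers a from mem_zpowers a)
  rw [← hg] at ha'
  obtain ⟨y, hy, hya⟩ := ha'
  have hyb : (y : X) ∈ zpowers b := hy
  have hya' : (g : X) * y * (g : X)⁻¹ = a := congrArg Subtype.val hya
  obtain ⟨c₀, hc₀, w, hw, hgw⟩ := mem_sup_of_normal_left.1 g.2
  refine ⟨c₀⁻¹, P0.inv_mem hc₀, ?_⟩
  have h1 : c₀⁻¹ * a * (c₀⁻¹)⁻¹ = w * y * w⁻¹ := by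
    rw [← hya', ← hgw]
    group
  rw [h1]
  exact (zpowers b).mul_mem ((zpowers b).mul_mem hw hyb) ((zpowers b).inv_mem hw)

theorem index_conjS (g : X) (K : Subgroup X) : (conjS g K).index = K.index := by
  have h1 := Subgroup.card_mul_index (conjS g K)
  have h2 := Subgroup.card_mul_index K
  rw [card_conjS] at h1
  exact Nat.eq_of_mul_eq_mul_left Nat.card_pos (h1.trans h2.symm)

theorem Nm_conjS (g : X) (K : Subgroup X) : Nm (conjS g K) = conjS g (Nm K) := by
  ext x
  rw [mem_conjS, mem_normalizer_iff, mem_normalizer_iff]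
  constructor
  · intro h k
    have h1 := h (g * k * g⁻¹)
    rw [mem_conjS, mem_conjS] at h1
    have h2 : g⁻¹ * (g * k * g⁻¹) * g = k := by group
    have h3 : g⁻¹ * (x * (g * k * g⁻¹) * x⁻¹) * g = g⁻¹ * x * g * k * (g⁻¹ * x * g)⁻¹ := by group
    rwa [h2, h3] at h1
  · intro h k
    have h1 := h (g⁻¹ * k * g)
    rw [mem_conjS, mem_conjS]
    have h3 : g⁻¹ * (x * k * x⁻¹) * g = g⁻¹ * x * g * (g⁻¹ * k * g) * (g⁻¹ * x * g)⁻¹ := by group
    rw [h3]
    exact h1

namespace Comps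

variable (hC : Comps p 𝓜)
include hC

/-- The star theorem. -/
theorem star (hp : p.Prime) (hM : M ∈ 𝓜)
    (hsame : ∀ M ∈ 𝓜, ∀ M' ∈ 𝓜, Nat.card M = Nat.card M') : ∃ e, M.index = p ^ e := by
  classical
  haveI : Fact p.Prime := ⟨hp⟩
  -- the normalizer has `p`-power index
  have hN : ∃ e, (Nm M).index = p ^ e := by
    apply exists_eq_pow_of_primes Subgroup.index_ne_zero_of_finite
    intro d hd hdd
    by_contra hdp
    haveI : Fact d.Prime := ⟨hd⟩
    obtain ⟨Q⟩ : Nonempty (Sylow d X) := inferInstance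
    have hdX : d ∣ Nat.card X := hdd.trans (Subgroup.index_dvd_card _)
    obtain ⟨M', hM', hQ, -⟩ := hC.exists_normalizing hp hd hdp hdX Q
    obtain ⟨g, rfl⟩ := hC.all_conj_of_same_order hp hsame hM hM'
    have h1 := not_dvd_index_of_sylow_le Q hQ
    rw [Nm_conjS, index_conjS] at h1
    exact h1 hdd
  have hall : ∀ q : ℕ, q.Prime → q ≠ p → q ∣ Nat.card X → q ∣ Nat.card M := by
    intro q hq hqp hd
    haveI : Fact q.Prime := ⟨hq⟩
    obtain ⟨Q⟩ : Nonempty (Sylow q X) := inferInstance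
    obtain ⟨M', hM', -, hd'⟩ := hC.exists_normalizing hp hq hqp hd Q
    rwa [hsame M hM M' hM']
  rcases hC.exo hp hM hp hN hall with h | h
  · exact h
  exfalso
  obtain ⟨r, z, y, hr, hrp, hrM, hzM, hz1, hzr, hzidx, hyN, hyr, hyM⟩ := h
  let P0 : Subgroup X := pCore p X
  haveI : P0.Normal := inferInstance
  have hP0 : IsPGroup p P0 := Cfsg.Agent.Lib.Basic.PCore.pCore_isPGroup p
  let π : X →* X ⧸ P0 := QuotientGroup.mk' P0
  have hπ : ∀ x, π x = 1 ↔ x ∈ P0 := fun x => by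
    simp [π]
  -- `P0 ∩ M = 1`
  have hP0M : ∀ t, t ∈ P0 → t ∈ M → t = 1 := by
    intro t h1 h2
    exact (isPGroup_iff_isEl.1 hP0 t h1).eq_one_of_coprime (hC.coprime_of_mem hM h2)
  -- conjugates of `z` commute modulo `P0`
  have hcomm : ∀ g h : X, Commute (π (g * z * g⁻¹)) (π (h * z * h⁻¹)) := by
    intro g h
    have h1 := commutator_conj_mem_pCore p z hzidx g h
    have h2 := (hπ _).2 h1
    simp only [map_mul, map_inv] at h2 ⊢
    have h3 := h2
    rw [mul_inv_eq_one, mul_inv_eq_iff_eq_mul] at h3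
    exact h3
  have hq₀ : ∃ q : ℕ, q.Prime ∧ q ≠ r ∧ q ∣ Nat.card M := by
    obtain ⟨q, s, hq, hs, hqs, hqd, hsd⟩ := hC.two M hM
    by_cases hqr : q = r
    · exact ⟨s, hs, fun h' => hqs (hqr.trans h'.symm), hsd⟩
    · exact ⟨q, hq, hqr, hqd⟩
  obtain ⟨q, hq, hqr, hqd⟩ := hq₀
  obtain ⟨u, huM, huo⟩ := exists_el_of_dvd M hq hqd
  have hu1 : u ≠ 1 := by
    rintro rfl
    rw [orderOf_one] at huo
    exact hq.one_lt.ne huo
  have hab := hC.ab M hM
  -- Claim A
  have hclaim : ∀ g : X, ∃ c ∈ P0, c * g ∈ Nm M := by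
    intro g
    set z' := g * z * g⁻¹ with hz'
    have hz're : IsEl r z' := hzr.conj g
    have hz'1 : z' ≠ 1 := by
      intro h
      apply hz1
      have h2 : g⁻¹ * (g * z * g⁻¹) * g = z := by group
      rw [← h2, ← hz', h]
      group
    have hz'P : z' ∉ P0 := fun h => hz'1
      ((isPGroup_iff_isEl.1 hP0 z' h).eq_one_of_isEl hp hr (Ne.symm hrp) hz're)
    -- first lift
    have h1 : (z' * z * z'⁻¹)⁻¹ * z ∈ P0 := by
      rw [← hπ]
      have h2 := hcomm g 1
      simp only [one_mul, inv_one, mul_one] at h2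
      rw [← hz'] at h2
      have h3 := h2.eq
      simp only [map_mul, map_inv]
      rw [inv_mul_eq_one]
      show _ = _
      calc π z' * π z * (π z')⁻¹ = π z * π z' * (π z')⁻¹ := by rw [h3]
        _ = π z := by group
    obtain ⟨c₁, hc₁, hc₁z⟩ := sylow_lift hp hP0 hr hrp (hzr.conj z') hzr h1
    set n := c₁ * z' with hn
    have hnN : n ∈ Nm M := by
      apply hC.normalizes hM hzM hz1
      have h2 : n * z * n⁻¹ = c₁ * (z' * z * z'⁻¹) * c₁⁻¹ := by
        rw [hn]; group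
      rw [h2]
      exact (zpowers_le.2 hzM) hc₁z
    have hπn : π n = π z' := by
      rw [hn, map_mul, (hπ c₁).2 hc₁, one_mul]
    -- `n` centralizes `u`
    have hnu : Commute n u := by
      set t := n * u * n⁻¹ * u⁻¹ with ht
      have htM : t ∈ M := M.mul_mem (conj_mem_of_mem_Nm hnN huM) (M.inv_mem huM)
      have hte : IsEl q t := by
        apply IsEl.mul
        · exact (hab _ (conj_mem_of_mem_Nm hnN huM) _ (M.inv_mem huM))
        · exact (isEl_of_orderOf_eq huo).conj n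
        · exact (isEl_of_orderOf_eq huo).inv
      have hπt : π t = π z' * (π (u * g * z * (u * g)⁻¹))⁻¹ := by
        have h2 : u * g * z * (u * g)⁻¹ = u * z' * u⁻¹ := by
          rw [hz']; group
        rw [h2, ht]
        simp only [map_mul, map_inv, hπn]
        group
      have h3 : Commute (π z') (π (u * g * z * (u * g)⁻¹)) := by
        have h4 := hcomm g (u * g)
        rw [← hz'] at h4
        exact h4
      have h5 : IsEl r (π t) := by
        rw [hπt]
        apply IsEl.mul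
        · exact h3.inv_right
        · exact hz're.map π
        · exact ((hzr.conj (u * g)).map π).inv
      have h6 : π t = 1 :=
        (hte.map π).eq_one_of_isEl hq hr hqr h5
      have h7 : t = 1 := hP0M t ((hπ t).1 h6) htM
      rw [ht, mul_inv_eq_one, mul_inv_eq_iff_eq_mul] at h7
      exact h7
    -- the `r`-part of `n`
    obtain ⟨m, m', hm, hm', hmm, hme, hmc⟩ := exists_parts hr n
    have hπm : π m = π z' := by
      rw [map_part_left π hm hm' hmm hmc (by rw [hπn]; exact hz're.map π), hπn]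
    have hm1 : m ≠ 1 := by
      rintro rfl
      rw [map_one] at hπm
      exact hz'P ((hπ z').1 hπm.symm)
    have hmM : m ∈ M := by
      apply hC.mem_of_commute hM huM hu1 (hme.coprime_of_ne hr hp hrp)
      · exact (commute_of_mem_zpowers hm hnu).symm
      · rw [huo]
        obtain ⟨e, he⟩ := hme.orderOf_eq hr
        rw [he]
        exact Nat.Coprime.pow_right _ ((Nat.coprime_primes hq hr).2 hqr)
    have h2 : z'⁻¹ * m ∈ P0 := by
      rw [← hπ, map_mul, map_inv, hπm]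
      group
    obtain ⟨c₂, hc₂, hc₂z⟩ := sylow_lift hp hP0 hr hrp hz're hme h2
    refine ⟨c₂, hc₂, ?_⟩
    apply hC.normalizes hM hzM hz1
    have h3 : c₂ * g * z * (c₂ * g)⁻¹ = c₂ * z' * c₂⁻¹ := by
      rw [hz']; group
    rw [h3]
    exact (zpowers_le.2 hmM) hc₂z
  -- Step 4
  have hy1 : y ≠ 1 := by
    rintro rfl
    exact hyM M.one_mem
  have hyp : Nat.Coprime (orderOf y) p := hyr.coprime_of_ne hr hp hrp
  obtain ⟨M', hM', hyM'⟩ := hC.cover y hy1 hyp
  obtain ⟨g, rfl⟩ := hC.all_conj_of_same_order hp hsame hM hM'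
  obtain ⟨c, hc, hcN⟩ := hclaim g
  have hmM : c * y * c⁻¹ ∈ M := by
    have h1 : g⁻¹ * y * g ∈ M := mem_conjS.1 hyM'
    have h2 : (c * g) * (g⁻¹ * y * g) * (c * g)⁻¹ = c * y * c⁻¹ := by group
    rw [← h2]
    exact conj_mem_of_mem_Nm hcN h1
  set m := c * y * c⁻¹ with hm
  set t := y⁻¹ * m with ht
  have htP : t ∈ P0 := by
    have h1 : t = (y⁻¹ * c * y) * c⁻¹ := by
      rw [ht, hm]; group
    rw [h1]
    apply P0.mul_mem _ (P0.inv_mem hc)
    have := Subgroup.Normal.conj_mem (inferInstance : P0.Normal) c hc y⁻¹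
    simpa using this
  have htN : t ∈ Nm M := (Nm M).mul_mem ((Nm M).inv_mem hyN) (le_Nm M hmM)
  have htcz : Cz t M := by
    intro v hv
    have h1 : t * v * t⁻¹ * v⁻¹ ∈ M := M.mul_mem (conj_mem_of_mem_Nm htN hv) (M.inv_mem hv)
    have h2 : t * v * t⁻¹ * v⁻¹ ∈ P0 := by
      have h3 : t * v * t⁻¹ * v⁻¹ = t * (v * t⁻¹ * v⁻¹) := by group
      rw [h3]
      exact P0.mul_mem htP (Subgroup.Normal.conj_mem inferInstance _ (P0.inv_mem htP) v)
    have h4 := hP0M _ h2 h1
    rw [mul_inv_eq_one, mul_inv_eq_iff_eq_mul] at h4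
    exact h4
  have hty : y = m * t⁻¹ := by
    rw [ht]; group
  have hcmt : Commute m t⁻¹ := (htcz m hmM).inv_left.symm
  obtain ⟨e, he⟩ := hyr
  have h1 : m ^ (r ^ e) * (t⁻¹) ^ (r ^ e) = 1 := by
    rw [← hcmt.mul_pow, ← hty, he]
  have hte : (t⁻¹) ^ (r ^ e) ∈ P0 := P0.pow_mem (P0.inv_mem htP) _
  have hte' : (t⁻¹) ^ (r ^ e) ∈ M := by
    have h2 : (t⁻¹) ^ (r ^ e) = (m ^ (r ^ e))⁻¹ := eq_inv_of_mul_eq_one_right h1
    rw [h2]
    exact M.inv_mem (M.pow_mem hmM _)
  have ht1 : (t⁻¹) ^ (r ^ e) = 1 := hP0M _ hte hte'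
  have htr : IsEl r t⁻¹ := ⟨e, ht1⟩
  have htp : IsEl p t⁻¹ := (isPGroup_iff_isEl.1 hP0 _ (P0.inv_mem htP))
  have ht2 : t⁻¹ = 1 := htr.eq_one_of_isEl hr hp hrp htp
  rw [ht2, mul_one] at hty
  exact hyM (hty ▸ hmM)

end Comps

end Cfsg.Agent.Lib.Ito
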