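import Mathlib
import Cfsg.Agent.Lib.Ito.Star
import Cfsg.Agent.Lib.Char.Burnside2

/-!
# Partitions by abelian subgroups with at most two orders
-/

set_option autoImplicit false
set_option linter.style.haveILetI false
set_option linter.unusedSectionVars false
set_option linter.unusedVariables false

namespace Cfsg.Agent.Lib.Ito

open Subgroup Cfsg Cfsg.Agent.Lib.Char.Kazarin

variable {X : Type*} [Group X] [Finite X] {p : ℕ} {𝓜 : Set (Subgroup X)} {M : Subgroup X}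

/-- A group generated by a normal abelian subgroup and an abelian subgroup is solvable. -/
theorem isSolvable_of_normal_sup {M₀ M₁ : Subgroup X} (hn : ∀ g, g ∈ Nm M₀)
    (h₀ : ∀ a ∈ M₀, ∀ b ∈ M₀, a * b = b * a) (h₁ : ∀ a ∈ M₁, ∀ b ∈ M₁, a * b = b * a)
    (htop : M₀ ⊔ M₁ = ⊤) : Group.IsSolvable X := by
  haveI hnorm : M₀.Normal := by
    rw [← normalizer_eq_top_iff]
    exact eq_top_iff.2 fun g _ => hn g
  haveI : IsMulCommutative M₀ := ⟨⟨fun a b => Subtype.ext (h₀ a a.2 b b.2)⟩⟩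
  letI cg : CommGroup M₀ :=
    { (inferInstance : Group M₀) with
      mul_comm := fun a b => Subtype.ext (h₀ a a.2 b b.2) }
  have hs₀ : Group.IsSolvable M₀ := by
    apply Group.isSolvable_of_comm
    intro a b
    exact Subtype.ext (h₀ a a.2 b b.2)
  have hq : Group.IsSolvable (X ⧸ M₀) := by
    apply Group.isSolvable_of_comm
    intro a b
    obtain ⟨a, rfl⟩ := QuotientGroup.mk_surjective a
    obtain ⟨b, rfl⟩ := QuotientGroup.mk_surjective b
    have hdec : ∀ x : X, ∃ m ∈ M₁, ((x : X ⧸ M₀) = (m : X ⧸ M₀)) := by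
      intro x
      have hx : x ∈ M₀ ⊔ M₁ := by rw [htop]; exact mem_top x
      obtain ⟨y, hy, z, hz, rfl⟩ := mem_sup_of_normal_left.1 hx
      refine ⟨z, hz, ?_⟩
      rw [QuotientGroup.eq]
      have : (y * z)⁻¹ * z = z⁻¹ * y⁻¹ * z := by group
      rw [this]
      have h3 := Subgroup.Normal.conj_mem hnorm y⁻¹ (M₀.inv_mem hy) z⁻¹
      simpa using h3
    obtain ⟨m, hm, hma⟩ := hdec a
    obtain ⟨n, hn', hnb⟩ := hdec b
    rw [hma, hnb, ← QuotientGroup.mk_mul, ← QuotientGroup.mk_mul, h₁ m hm n hn']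
  exact Group.isSolvable_of_ker_le_range M₀.subtype (QuotientGroup.mk' M₀) (by
    intro x hx
    have : x ∈ M₀ := by simpa using hx
    exact ⟨⟨x, this⟩, rfl⟩)

theorem conjS_eq_iff {a b : X} {K : Subgroup X} : conjS a K = conjS b K ↔ a⁻¹ * b ∈ Nm K := by
  constructor
  · intro h
    rw [mem_normalizer_iff]
    intro k
    have h1 : b * k * b⁻¹ ∈ conjS b K ↔ k ∈ K := by
      rw [mem_conjS]
      have : b⁻¹ * (b * k * b⁻¹) * b = k := by group
      rw [this]
    have h2 : b * k * b⁻¹ ∈ conjS a K ↔ a⁻¹ * b * k * (a⁻¹ * b)⁻¹ ∈ K := by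
      rw [mem_conjS]
      have : a⁻¹ * (b * k * b⁻¹) * a = a⁻¹ * b * k * (a⁻¹ * b)⁻¹ := by group
      rw [this]
    rw [← h2, h, h1]
  · intro h
    ext x
    rw [mem_conjS, mem_conjS]
    have h1 := (mem_normalizer_iff.1 h) (b⁻¹ * x * b)
    have h3 : a⁻¹ * b * (b⁻¹ * x * b) * (a⁻¹ * b)⁻¹ = a⁻¹ * x * a := by group
    rw [h3] at h1
    exact h1.symm

/-- Product over a finite set with a cyclic shift. -/
theorem prod_lt_sq {S : Finset ℕ} {q₀' q₁' : ℕ} (h₀ : q₀' ∈ S) (h₁ : q₁' ∈ S) (hne : q₀' ≠ q₁')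
    (y g : ℕ → ℕ) (hg : ∀ q ∈ S, 0 < g q) (hy : ∀ q ∈ S, 0 < y q)
    (hlt : ∀ q ∈ S, ∀ q' ∈ S, q ≠ q' → g q < y q * y q') :
    ∏ q ∈ S, g q < (∏ q ∈ S, y q) * (∏ q ∈ S, y q) := by
  classical
  obtain ⟨a, haS, ha⟩ := S.exists_min_image y ⟨q₀', h₀⟩
  obtain ⟨b, hbS, hba⟩ : ∃ b ∈ S, b ≠ a := by
    by_cases h : q₀' = a
    · exact ⟨q₁', h₁, fun h' => hne (h.trans h'.symm)⟩
    · exact ⟨q₀', h₀, h⟩
  let σ : Equiv.Perm ℕ := Equiv.swap a b
  have hσS : ∀ q ∈ S, σ q ∈ S := by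
    intro q hq
    by_cases h1 : q = a
    · subst h1
      simpa [σ] using hbS
    by_cases h2 : q = b
    · subst h2
      simpa [σ] using haS
    simpa [σ, Equiv.swap_apply_of_ne_of_ne h1 h2] using hq
  have h1 : ∏ q ∈ S, y (σ q) = ∏ q ∈ S, y q := by
    apply Equiv.Perm.prod_comp σ S y
    intro q hq
    have hq' : σ q ≠ q := hq
    by_contra hqS
    have h2 : q ≠ a := fun h => hqS (Finset.mem_coe.2 (h ▸ haS))
    have h3 : q ≠ b := fun h => hqS (Finset.mem_coe.2 (h ▸ hbS))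
    exact hq' (Equiv.swap_apply_of_ne_of_ne h2 h3)
  have h2 : ∏ q ∈ S, g q < ∏ q ∈ S, (y q * y (σ q)) := by
    apply Finset.prod_lt_prod_of_nonempty hg _ ⟨q₀', h₀⟩
    intro q hq
    by_cases ha' : q = a
    · subst ha'
      have : σ q = b := by simp [σ]
      rw [this]
      exact hlt q hq b hbS (Ne.symm hba)
    by_cases hb' : q = b
    · subst hb'
      have : σ q = a := by simp [σ]
      rw [this]
      exact hlt q hq a haS ha'
    have : σ q = q := Equiv.swap_apply_of_ne_of_ne ha' hb'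
    rw [this]
    calc g q < y q * y a := hlt q hq a haS ha'
      _ ≤ y q * y q := Nat.mul_le_mul_left _ (ha q hq)
  rwa [Finset.prod_mul_distrib, h1] at h2

/-- A positive number with two prime divisors at most. -/
theorem eq_pow_mul_pow_of_primes {n q r : ℕ} (hn : n ≠ 0) (hq : q.Prime) (hr : r.Prime)
    (h : ∀ d : ℕ, d.Prime → d ∣ n → d = q ∨ d = r) : ∃ a b, n = q ^ a * r ^ b := by
  have h1 : ordCompl[q] n ≠ 0 := (Nat.ordCompl_pos q hn).ne'
  obtain ⟨b, hb⟩ := exists_eq_pow_of_primes (p0 := r) h1 (by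
    intro d hd hdd
    rcases h d hd (hdd.trans (Nat.ordCompl_dvd n q)) with h2 | h2
    · subst h2
      exact absurd hdd (Nat.not_dvd_ordCompl hd hn)
    · exact h2)
  refine ⟨n.factorization q, b, ?_⟩
  rw [← hb]
  exact (Nat.ordProj_mul_ordCompl_eq_self n q).symm

namespace Comps

variable (hC : Comps p 𝓜) (hp : p.Prime) (hfake : ¬ p ∣ Nat.card X)
include hC hp hfake

theorem all_coprime (g : X) : Nat.Coprime (orderOf g) p :=
  Nat.Coprime.coprime_dvd_left (orderOf_dvd_natCard g)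
    ((Nat.Prime.coprime_iff_not_dvd hp).2 hfake).symm

/-- T3: a nontrivial normal abelian `s`-subgroup lies in a normal member. -/
theorem exists_normal_member {E : Subgroup X} {s : ℕ} (hs : s.Prime) (hEn : E.Normal)
    (hE : IsPGroup s E) (hEab : ∀ a ∈ E, ∀ b ∈ E, a * b = b * a) (hne : E ≠ ⊥) :
    ∃ M₀ ∈ 𝓜, ∀ g, g ∈ Nm M₀ := by
  obtain ⟨⟨z₀, hz₀⟩, hz₀1⟩ := Subgroup.ne_bot_iff_exists_ne_one.1 hne
  have hz₀1' : z₀ ≠ 1 := fun h => hz₀1 (Subtype.ext h)
  obtain ⟨M₀, hM₀, hzM⟩ := hC.cover z₀ hz₀1' (hC.all_coprime hp hfake z₀)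
  refine ⟨M₀, hM₀, ?_⟩
  -- another prime
  obtain ⟨q, hq, hqs, hqd⟩ : ∃ q : ℕ, q.Prime ∧ q ≠ s ∧ q ∣ Nat.card M₀ := by
    obtain ⟨q, r, hq, hr, hqr, hqd, hrd⟩ := hC.two M₀ hM₀
    by_cases h : q = s
    · exact ⟨r, hr, fun h' => hqr (h.trans h'.symm), hrd⟩
    · exact ⟨q, hq, h, hqd⟩
  obtain ⟨u, huM, huo⟩ := exists_el_of_dvd M₀ hq hqd
  have hu1 : u ≠ 1 := by
    rintro rfl
    rw [orderOf_one] at huo
    exact hq.one_lt.ne huo
  have hEle : E ≤ M₀ := by
    intro e he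
    have heN : e ∈ Nm M₀ := by
      apply hC.normalizes_of_commute hM₀ hzM hz₀1'
      exact hEab e he z₀ hz₀
    have heu : Commute e u := by
      set t := e * u * e⁻¹ * u⁻¹ with ht
      have h1 : t ∈ M₀ := M₀.mul_mem (conj_mem_of_mem_Nm heN huM) (M₀.inv_mem huM)
      have h2 : t ∈ E := by
        have h3 : t = e * (u * e⁻¹ * u⁻¹) := by rw [ht]; group
        rw [h3]
        exact E.mul_mem he (hEn.conj_mem _ (E.inv_mem he) u)
      have h4 : IsEl q t := by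
        apply IsEl.mul
        · exact hC.ab M₀ hM₀ _ (conj_mem_of_mem_Nm heN huM) _ (M₀.inv_mem huM)
        · exact (isEl_of_orderOf_eq huo).conj e
        · exact (isEl_of_orderOf_eq huo).inv
      have h5 : IsEl s t := isPGroup_iff_isEl.1 hE t h2
      have h6 : t = 1 := h4.eq_one_of_isEl hq hs hqs h5
      rw [ht, mul_inv_eq_one, mul_inv_eq_iff_eq_mul] at h6
      exact h6
    apply hC.mem_of_commute hM₀ huM hu1 (hC.all_coprime hp hfake e) heu.symm
    rw [huo]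
    have h7 := (isPGroup_iff_isEl.1 hE e he).coprime_of_ne hs hq (Ne.symm hqs)
    exact h7.symm
  intro g
  exact hC.normalizes hM₀ (hEle hz₀) hz₀1' (hEle (hEn.conj_mem _ hz₀ g))

/-- T4: a normal member makes the group solvable. -/
theorem solvable_of_normal_member {A₁ A₂ : ℕ}
    (horders : ∀ M ∈ 𝓜, Nat.card M = A₁ ∨ Nat.card M = A₂) {M₀ : Subgroup X} (hM₀ : M₀ ∈ 𝓜)
    (hn : ∀ g, g ∈ Nm M₀) : Group.IsSolvable X := by
  classical
  have hab₀ := hC.ab M₀ hM₀
  have hcop := hC.all_coprime hp hfake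
  -- Step a
  have hN' : ∀ r : ℕ, r.Prime → r ∣ Nat.card M₀ → ∀ y : X, IsEl r y → y ∈ M₀ := by
    intro r hr hrd y hy
    by_contra hyM
    have hy1 : y ≠ 1 := by
      rintro rfl
      exact hyM M₀.one_mem
    obtain ⟨Mj, hMj, hyMj⟩ := hC.cover y hy1 (hcop y)
    have hne : Mj ≠ M₀ := by
      rintro rfl
      exact hyM hyMj
    have hRle : zpowers y ≤ normalizer ((qSub M₀ hab₀ r : Subgroup X) : Set X) := by
      rw [zpowers_le]
      exact qSub_normalizer (hn y)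
    obtain ⟨z, hzV, hz1, hzfix⟩ := exists_fixed hr
      (isPGroup_iff_isEl.2 fun x hx => hy.of_mem_zpowers hx) isPGroup_qSub
      (qSub_ne_bot hr hrd) hRle
    have hzy : y * z * y⁻¹ = z := hzfix y (mem_zpowers _)
    have hcz : Commute y z := by
      rw [mul_inv_eq_iff_eq_mul] at hzy
      exact hzy
    have hzN : z ∈ Nm Mj := hC.normalizes_of_commute hMj hyMj hy1 hcz.symm
    have hzcz : ∀ u ∈ Mj, Commute z u := by
      intro u hu
      have h1 : z * u * z⁻¹ * u⁻¹ ∈ M₀ := by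
        have h3 : z * u * z⁻¹ * u⁻¹ = z * (u * z⁻¹ * u⁻¹) := by group
        rw [h3]
        exact M₀.mul_mem hzV.1 (conj_mem_of_mem_Nm (hn u) (M₀.inv_mem hzV.1))
      have h2 : z * u * z⁻¹ * u⁻¹ ∈ Mj :=
        Mj.mul_mem (conj_mem_of_mem_Nm hzN hu) (Mj.inv_mem hu)
      have h4 : z * u * z⁻¹ * u⁻¹ = 1 := by
        by_contra h
        exact hne (hC.ti M₀ hM₀ Mj hMj _ h h1 h2).symm
      rw [mul_inv_eq_one, mul_inv_eq_iff_eq_mul] at h4
      exact h4
    obtain ⟨s, hs, hsr, hsd⟩ : ∃ s : ℕ, s.Prime ∧ s ≠ r ∧ s ∣ Nat.card Mj := by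
      obtain ⟨q, t, hq, ht, hqt, hqd, htd⟩ := hC.two Mj hMj
      by_cases h : q = r
      · exact ⟨t, ht, fun h' => hqt (h.trans h'.symm), htd⟩
      · exact ⟨q, hq, h, hqd⟩
    obtain ⟨u, huM, huo⟩ := exists_el_of_dvd Mj hs hsd
    have hu1 : u ≠ 1 := by
      rintro rfl
      rw [orderOf_one] at huo
      exact hs.one_lt.ne huo
    have huM₀ : u ∈ M₀ := by
      apply hC.mem_of_commute hM₀ hzV.1 hz1 (hcop u) (hzcz u huM)
      rw [huo]
      exact hzV.2.coprime_of_ne hr hs (Ne.symm hsr)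
    exact hne (hC.ti M₀ hM₀ Mj hMj u hu1 huM₀ huM).symm
  -- Step b
  have hdis : ∀ M' ∈ 𝓜, M' ≠ M₀ → ∀ r : ℕ, r.Prime → r ∣ Nat.card M' → ¬ r ∣ Nat.card M₀ := by
    intro M' hM' hne r hr hrd hrd₀
    obtain ⟨y, hy, hyo⟩ := exists_el_of_dvd M' hr hrd
    have hy1 : y ≠ 1 := by
      rintro rfl
      rw [orderOf_one] at hyo
      exact hr.one_lt.ne hyo
    exact hne (hC.ti M' hM' M₀ hM₀ y hy1 hy (hN' r hr hrd₀ y (isEl_of_orderOf_eq hyo)))
  by_cases hall : ∀ M' ∈ 𝓜, M' = M₀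
  · -- `X = M₀`
    apply Group.isSolvable_of_comm
    have hmem : ∀ x : X, x ∈ M₀ := by
      intro x
      by_cases hx : x = 1
      · rw [hx]; exact M₀.one_mem
      · obtain ⟨M', hM', hxM⟩ := hC.cover x hx (hcop x)
        rwa [hall M' hM'] at hxM
    exact fun a b => hab₀ a (hmem a) b (hmem b)
  push Not at hall
  obtain ⟨M', hM', hne'⟩ := hall
  -- orders of the other members
  have hprime₀ : ∃ r : ℕ, r.Prime ∧ r ∣ Nat.card M₀ := by
    obtain ⟨q, _, hq, _, _, hqd, _⟩ := hC.two M₀ hM₀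
    exact ⟨q, hq, hqd⟩
  have hordne : ∀ M'' ∈ 𝓜, M'' ≠ M₀ → Nat.card M'' ≠ Nat.card M₀ := by
    intro M'' hM'' hne h
    obtain ⟨r, hr, hrd⟩ := hprime₀
    exact hdis M'' hM'' hne r hr (h ▸ hrd) hrd
  have hB : ∀ M'' ∈ 𝓜, M'' ≠ M₀ → Nat.card M'' = Nat.card M' := by
    intro M'' hM'' hne
    have h1 := hordne M'' hM'' hne
    have h2 := hordne M' hM' hne'
    rcases horders M'' hM'' with h3 | h3 <;> rcases horders M' hM' with h4 | h4 <;>
      rcases horders M₀ hM₀ with h5 | h5 <;> omega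
  -- conjugacy of the others
  have hprimeX : ∀ d : ℕ, d.Prime → d ∣ Nat.card X → ¬ d ∣ Nat.card M₀ → ∀ D : Sylow d X,
      ∃ M'' ∈ 𝓜, M'' ≠ M₀ ∧ (D : Subgroup X) ≤ Nm M'' ∧ d ∣ Nat.card M'' := by
    intro d hd hdX hd₀ D
    have hdp : d ≠ p := by
      rintro rfl
      exact hfake hdX
    obtain ⟨M'', hM'', hD, hdd⟩ := hC.exists_normalizing hp hd hdp hdX D
    refine ⟨M'', hM'', ?_, hD, hdd⟩
    rintro rfl
    exact hd₀ hdd
  have hconj : ∀ M'' ∈ 𝓜, M'' ≠ M₀ → ∃ g, M'' = conjS g M' := by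
    intro M'' hM'' hne
    obtain ⟨q, r, hq, hr, hqr, hqd, hrd⟩ := hC.two M' hM'
    haveI : Fact q.Prime := ⟨hq⟩
    haveI : Fact r.Prime := ⟨hr⟩
    obtain ⟨Q⟩ : Nonempty (Sylow q X) := inferInstance
    obtain ⟨R⟩ : Nonempty (Sylow r X) := inferInstance
    have hqX : q ∣ Nat.card X := hqd.trans (Subgroup.card_subgroup_dvd_card M')
    have hrX : r ∣ Nat.card X := hrd.trans (Subgroup.card_subgroup_dvd_card M')
    obtain ⟨Mq, hMq, hqne, hQ, -⟩ := hprimeX q hq hqX (hdis M' hM' hne' q hq hqd) Q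
    obtain ⟨Mr, hMr, hrne, hR, -⟩ := hprimeX r hr hrX (hdis M' hM' hne' r hr hrd) R
    exact hC.chain hp hq hr hqr hMq hMr (hB Mq hMq hqne) (hB Mr hMr hrne) Q R hQ hR hqd hrd hM' hM''
      rfl (hB M'' hM'' hne)
  -- `K = M₀ M'` is normal
  let K : Subgroup X := M₀ ⊔ M'
  have hNN : Nm M' ≤ Nm K := by
    intro x hx
    rw [mem_normalizer_iff]
    intro h
    have hle : conjS x K = K := by
      have h1 : conjS x K = conjS x M₀ ⊔ conjS x M' := by
        show K.map _ = _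
        rw [Subgroup.map_sup]
        rfl
      have h2 : conjS x M₀ = M₀ := by
        have := (conjS_eq_iff (a := 1) (b := x) (K := M₀)).2 (by simpa using hn x)
        rw [← this]
        ext y
        simp [mem_conjS]
      have h3 : conjS x M' = M' := by
        have := (conjS_eq_iff (a := 1) (b := x) (K := M')).2 (by simpa using hx)
        rw [← this]
        ext y
        simp [mem_conjS]
      rw [h1, h2, h3]
    have h4 : x * h * x⁻¹ ∈ conjS x K ↔ h ∈ K := by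
      rw [mem_conjS]
      have : x⁻¹ * (x * h * x⁻¹) * x = h := by group
      rw [this]
    rw [hle] at h4
    exact h4.symm
  have hKidx : (Nm K).index = 1 := by
    by_contra hne1
    obtain ⟨d, hd, hdd⟩ := Nat.exists_prime_and_dvd hne1
    haveI : Fact d.Prime := ⟨hd⟩
    have hdX : d ∣ Nat.card X := hdd.trans (Subgroup.index_dvd_card _)
    obtain ⟨D⟩ : Nonempty (Sylow d X) := inferInstance
    by_cases hd₀ : d ∣ Nat.card M₀
    · have hDle : (D : Subgroup X) ≤ Nm K := by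
        intro x hx
        have h1 : x ∈ M₀ := hN' d hd hd₀ x (isEl_of_mem_sylow D hx)
        exact le_Nm K ((le_sup_left : M₀ ≤ K) h1)
      exact not_dvd_index_of_sylow_le D hDle hdd
    · obtain ⟨M'', hM'', hne, hD, -⟩ := hprimeX d hd hdX hd₀ D
      obtain ⟨g, rfl⟩ := hconj M'' hM'' hne
      rw [Nm_conjS] at hD
      have hDle : (D : Subgroup X) ≤ conjS g (Nm K) := by
        intro x hx
        have h1 := mem_conjS.1 (hD hx)
        exact mem_conjS.2 (hNN h1)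
      have h2 := not_dvd_index_of_sylow_le D hDle
      rw [index_conjS] at h2
      exact h2 hdd
  have hKN : ∀ g, g ∈ Nm K := by
    intro g
    have : Nm K = ⊤ := Subgroup.index_eq_one.1 hKidx
    rw [this]
    exact mem_top g
  have htop : M₀ ⊔ M' = ⊤ := by
    rw [eq_top_iff]
    intro x _
    by_cases hx : x = 1
    · rw [hx]; exact K.one_mem
    obtain ⟨M'', hM'', hxM⟩ := hC.cover x hx (hcop x)
    by_cases hne : M'' = M₀
    · rw [hne] at hxM
      exact (le_sup_left : M₀ ≤ K) hxM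
    · obtain ⟨g, rfl⟩ := hconj M'' hM'' hne
      have h1 := mem_conjS.1 hxM
      have h2 : g⁻¹ * x * g ∈ K := (le_sup_right : M' ≤ K) h1
      have h3 := conj_mem_of_mem_Nm (hKN g) h2
      have h4 : g * (g⁻¹ * x * g) * g⁻¹ = x := by group
      rwa [h4] at h3
  exact isSolvable_of_normal_sup hn hab₀ (hC.ab M' hM') htop

end Comps

end Cfsg.Agent.Lib.Ito
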