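import Mathlib
import Cfsg.Agent.Lib.Ito.Partition

/-!
# Partitions by abelian subgroups with at most two orders: the main theorem
-/

set_option autoImplicit false
set_option linter.style.haveILetI false
set_option linter.unusedSectionVars false
set_option linter.unusedVariables false

namespace Cfsg.Agent.Lib.Ito

open Subgroup Cfsg Cfsg.Agent.Lib.Char.Kazarin

variable {X : Type*} [Group X] [Finite X] {p : ℕ} {𝓜 : Set (Subgroup X)} {M : Subgroup X}

/-- All members of order `A` are conjugate. -/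
def AllConj (𝓜 : Set (Subgroup X)) (A : ℕ) : Prop :=
  ∀ M₁ ∈ 𝓜, ∀ M₂ ∈ 𝓜, Nat.card M₁ = A → Nat.card M₂ = A → ∃ g : X, M₂ = conjS g M₁

/-- A Sylow subgroup for `q` normalizes a member of order `A`, and `q` divides `A`. -/
def HasNorm (𝓜 : Set (Subgroup X)) (q A : ℕ) : Prop :=
  q ∣ A ∧ ∃ M ∈ 𝓜, Nat.card M = A ∧ ∃ Q : Sylow q X, (Q : Subgroup X) ≤ Nm M

namespace Comps

variable (hC : Comps p 𝓜) (hp : p.Prime) (hfake : ¬ p ∣ Nat.card X)
include hC hp

theorem allConj_of_hasNorm {A q q' : ℕ} (hq : q.Prime) (hq' : q'.Prime) (hne : q ≠ q')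
    (h : HasNorm 𝓜 q A) (h' : HasNorm 𝓜 q' A) : AllConj 𝓜 A := by
  obtain ⟨hd, M, hM, hc, Q, hQ⟩ := h
  obtain ⟨hd', M', hM', hc', Q', hQ'⟩ := h'
  intro M₁ hM₁ M₂ hM₂ h₁ h₂
  exact hC.chain hp hq hq' hne hM hM' hc hc' Q Q' hQ hQ' hd hd' hM₁ hM₂ h₁ h₂

include hfake

theorem hasNorm_of_dvd {A₁ A₂ : ℕ} (horders : ∀ M ∈ 𝓜, Nat.card M = A₁ ∨ Nat.card M = A₂) {q : ℕ}
    (hq : q.Prime) (hd : q ∣ Nat.card X) : HasNorm 𝓜 q A₁ ∨ HasNorm 𝓜 q A₂ := by
  haveI : Fact q.Prime := ⟨hq⟩
  obtain ⟨Q⟩ : Nonempty (Sylow q X) := inferInstance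
  have hqp : q ≠ p := by
    rintro rfl
    exact hfake hd
  obtain ⟨M, hM, hQ, hqd⟩ := hC.exists_normalizing hp hq hqp hd Q
  rcases horders M hM with h | h
  · exact Or.inl ⟨h ▸ hqd, M, hM, h, Q, hQ⟩
  · exact Or.inr ⟨h ▸ hqd, M, hM, h, Q, hQ⟩

/-- The partition count. -/
theorem card_add_card (Fam : Finset (Subgroup X)) (hFam : ∀ M, M ∈ Fam ↔ M ∈ 𝓜) :
    Nat.card X + Fam.card = 1 + ∑ H ∈ Fam, Nat.card H := by
  classical
  haveI := Fintype.ofFinite X
  have hcop := hC.all_coprime hp hfake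
  have h1 : (Finset.univ : Finset X) = insert 1 (Fam.biUnion fun H =>
      Finset.univ.filter (fun x => x ∈ H ∧ x ≠ 1)) := by
    ext x
    simp only [Finset.mem_univ, Finset.mem_insert, Finset.mem_biUnion, Finset.mem_filter, true_and,
      true_iff]
    by_cases hx1 : x = 1
    · exact Or.inl hx1
    · obtain ⟨H, hH, hxH⟩ := hC.cover x hx1 (hcop x)
      exact Or.inr ⟨H, (hFam H).2 hH, hxH, hx1⟩
  have h2 : (1 : X) ∉ (Fam.biUnion fun H => Finset.univ.filter (fun x => x ∈ H ∧ x ≠ 1)) := by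
    simp
  have h3 : (Fam.biUnion fun H => Finset.univ.filter (fun x => x ∈ H ∧ x ≠ 1)).card
      = ∑ H ∈ Fam, (Finset.univ.filter (fun x => x ∈ H ∧ x ≠ 1)).card := by
    apply Finset.card_biUnion
    intro H hH K hK hHK
    change Disjoint _ _
    rw [Finset.disjoint_left]
    intro x hx hx'
    simp only [Finset.mem_filter, Finset.mem_univ, true_and] at hx hx'
    exact hHK (hC.ti H ((hFam H).1 hH) K ((hFam K).1 hK) x hx.2 hx.1 hx'.1)
  have h4 : ∀ H ∈ Fam, (Finset.univ.filter (fun x => x ∈ H ∧ x ≠ 1)).card + 1 = Nat.card H := by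
    intro H hH
    have h5 : Nat.card H = (Finset.univ.filter (fun x => x ∈ H)).card := by
      rw [Nat.card_eq_fintype_card, Fintype.card_subtype]
    rw [h5]
    have : (Finset.univ.filter (fun x => x ∈ H)) =
        insert 1 (Finset.univ.filter (fun x => x ∈ H ∧ x ≠ 1)) := by
      ext x
      simp only [Finset.mem_filter, Finset.mem_univ, true_and, Finset.mem_insert]
      constructor
      · intro h1
        by_cases hx1 : x = 1
        · exact Or.inl hx1
        · exact Or.inr ⟨h1, hx1⟩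
      · rintro (rfl | ⟨h1, -⟩)
        · exact H.one_mem
        · exact h1
    rw [this, Finset.card_insert_of_notMem (by simp)]
  have h5 : ∑ H ∈ Fam, ((Finset.univ.filter (fun x => x ∈ H ∧ x ≠ 1)).card + 1)
      = ∑ H ∈ Fam, Nat.card H := Finset.sum_congr rfl h4
  rw [Finset.sum_add_distrib] at h5
  simp only [Finset.sum_const, smul_eq_mul, mul_one] at h5
  have h6 : Nat.card X = (Finset.univ : Finset X).card := by
    rw [Nat.card_eq_fintype_card, Finset.card_univ]
  rw [h6, h1, Finset.card_insert_of_notMem h2, h3]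
  omega

omit hC hp hfake in
/-- The number of members of order `A` is the index of the normalizer. -/
theorem card_filter_eq_index (Fam : Finset (Subgroup X)) (hFam : ∀ M, M ∈ Fam ↔ M ∈ 𝓜)
    (hconj : ∀ M ∈ 𝓜, ∀ g : X, conjS g M ∈ 𝓜) {A : ℕ} (hc : AllConj 𝓜 A) (hM : M ∈ 𝓜)
    (hA : Nat.card M = A) : (Fam.filter (fun H : Subgroup X => Nat.card H = A)).card = (Nm M).index := by
  classical
  haveI : Fintype (X ⧸ Nm M) := Fintype.ofFinite _
  let f : (X ⧸ Nm M) → Subgroup X := fun c => conjS c.out M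
  have hf : Function.Injective f := by
    intro c d h
    have h1 : (c.out)⁻¹ * d.out ∈ Nm M := conjS_eq_iff.1 h
    have h2 : (c.out : X ⧸ Nm M) = (d.out : X ⧸ Nm M) := QuotientGroup.eq.2 h1
    rwa [QuotientGroup.out_eq', QuotientGroup.out_eq'] at h2
  have himg : Fam.filter (fun H : Subgroup X => Nat.card H = A) = Finset.univ.image f := by
    ext H
    simp only [Finset.mem_filter, Finset.mem_image, Finset.mem_univ, true_and]
    constructor
    · rintro ⟨hH, hHA⟩
      obtain ⟨g, rfl⟩ := hc M hM H ((hFam H).1 hH) hA hHA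
      refine ⟨(g : X ⧸ Nm M), ?_⟩
      apply conjS_eq_iff.2
      have h1 : ((g : X ⧸ Nm M)).out⁻¹ * g ∈ Nm M := by
        rw [← QuotientGroup.eq, QuotientGroup.out_eq']
      exact h1
    · rintro ⟨c, rfl⟩
      exact ⟨(hFam _).2 (hconj M hM _), by
        show Nat.card (conjS c.out M) = A
        rw [card_conjS, hA]⟩
  rw [himg, Finset.card_image_of_injective _ hf, Finset.card_univ, ← Nat.card_eq_fintype_card]
  rfl

/-- The count for two orders. -/
theorem two_count {A₁ A₂ : ℕ} (hne : A₁ ≠ A₂)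
    (horders : ∀ M ∈ 𝓜, Nat.card M = A₁ ∨ Nat.card M = A₂) (hc₁ : AllConj 𝓜 A₁)
    (hc₂ : AllConj 𝓜 A₂) {M₁ M₂ : Subgroup X} (hM₁ : M₁ ∈ 𝓜) (hM₂ : M₂ ∈ 𝓜)
    (h₁ : Nat.card M₁ = A₁) (h₂ : Nat.card M₂ = A₂) :
    Nat.card X + (Nm M₁).index + (Nm M₂).index = 1 + (Nm M₁).index * A₁ + (Nm M₂).index * A₂ := by
  classical
  haveI : Finite (Subgroup X) := inferInstance
  let Fam : Finset (Subgroup X) := (Set.toFinite 𝓜).toFinset
  have hFam : ∀ M, M ∈ Fam ↔ M ∈ 𝓜 := fun M => Set.Finite.mem_toFinset _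
  have hcount := hC.card_add_card hp hfake Fam hFam
  have hf₁ := card_filter_eq_index Fam hFam hC.conj hc₁ hM₁ h₁
  have hf₂ := card_filter_eq_index Fam hFam hC.conj hc₂ hM₂ h₂
  have hnot : Fam.filter (fun H : Subgroup X => ¬ Nat.card H = A₁) = Fam.filter (fun H : Subgroup X => Nat.card H = A₂) := by
    ext H
    simp only [Finset.mem_filter]
    constructor
    · rintro ⟨hH, h⟩
      exact ⟨hH, (horders H ((hFam H).1 hH)).resolve_left h⟩
    · rintro ⟨hH, h⟩
      exact ⟨hH, fun h' => hne (h'.symm.trans h)⟩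
  have hcard : Fam.card = (Nm M₁).index + (Nm M₂).index := by
    rw [← hf₁, ← hf₂, ← hnot]
    exact (Finset.card_filter_add_card_filter_not _).symm
  have hsum : ∑ H ∈ Fam, Nat.card H = (Nm M₁).index * A₁ + (Nm M₂).index * A₂ := by
    rw [← Finset.sum_filter_add_sum_filter_not Fam (fun H : Subgroup X => Nat.card H = A₁), hnot]
    have h3 : ∑ H ∈ Fam.filter (fun H : Subgroup X => Nat.card H = A₁), Nat.card H
        = (Nm M₁).index * A₁ := by
      rw [Finset.sum_congr rfl (g := fun _ => A₁) (fun H hH => (Finset.mem_filter.1 hH).2),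
        Finset.sum_const, hf₁, smul_eq_mul]
    have h4 : ∑ H ∈ Fam.filter (fun H : Subgroup X => Nat.card H = A₂), Nat.card H
        = (Nm M₂).index * A₂ := by
      rw [Finset.sum_congr rfl (g := fun _ => A₂) (fun H hH => (Finset.mem_filter.1 hH).2),
        Finset.sum_const, hf₂, smul_eq_mul]
    rw [h3, h4]
  rw [hcard, hsum] at hcount
  omega

/-- Case (ii), with a self-normalizing member. -/
theorem solvable_of_self_normalizing {A₁ A₂ : ℕ} (hne : A₁ ≠ A₂)
    (horders : ∀ M ∈ 𝓜, Nat.card M = A₁ ∨ Nat.card M = A₂) (hc₁ : AllConj 𝓜 A₁)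
    (hc₂ : AllConj 𝓜 A₂) {M₁ M₂ : Subgroup X} (hM₁ : M₁ ∈ 𝓜) (hM₂ : M₂ ∈ 𝓜)
    (h₁ : Nat.card M₁ = A₁) (h₂ : Nat.card M₂ = A₂) (hN : Nm M₁ ≤ M₁) : Group.IsSolvable X := by
  classical
  have hcop := hC.all_coprime hp hfake
  have hNeq : Nm M₁ = M₁ := le_antisymm hN (le_Nm M₁)
  have hab₁ := hC.ab M₁ hM₁
  -- (a) `M₁` is a Hall subgroup
  have hall : ∀ q : ℕ, q.Prime → q ∣ A₁ → ¬ q ∣ M₁.index := by
    intro q hq hqd
    haveI : Fact q.Prime := ⟨hq⟩
    let P : Subgroup X := qSub M₁ hab₁ q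
    obtain ⟨Q, hQ⟩ := (isPGroup_qSub (M := M₁) (hab := hab₁) (q := q)).exists_le_sylow
    have hPne : P ≠ ⊥ := qSub_ne_bot hq (h₁ ▸ hqd)
    obtain ⟨⟨v, hv⟩, hv1⟩ := Subgroup.ne_bot_iff_exists_ne_one.1 hPne
    have hv1' : v ≠ 1 := fun h => hv1 (Subtype.ext h)
    haveI : Group.IsNilpotent Q := (Q.isPGroup').isNilpotent
    let H : Subgroup Q := P.subgroupOf Q
    have hHtop : H = ⊤ := by
      by_contra hHne
      have hlt : H < ⊤ := lt_top_iff_ne_top.2 hHne
      have h1 := Group.normalizerCondition_of_isNilpotent (G := Q) H hlt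
      obtain ⟨w, hwN, hwH⟩ := SetLike.exists_of_lt h1
      apply hwH
      have hwX : (w : X) * v * (w : X)⁻¹ ∈ P := by
        have h2 : (⟨v, hQ hv⟩ : Q) ∈ H := hv
        have h3 := (mem_normalizer_iff.1 hwN (⟨v, hQ hv⟩ : Q)).1 h2
        exact h3
      have h4 : (w : X) ∈ M₁ := hN (hC.normalizes hM₁ hv.1 hv1' hwX.1)
      exact ⟨h4, isEl_of_mem_sylow Q w.2⟩
    have hQle : (Q : Subgroup X) ≤ M₁ := by
      intro x hx
      have h5 : (⟨x, hx⟩ : Q) ∈ H := by rw [hHtop]; exact mem_top _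
      exact h5.1
    exact not_dvd_index_of_sylow_le Q hQle
  -- (b) primes
  have hcard : A₁ * M₁.index = Nat.card X := by
    rw [← h₁]
    exact Subgroup.card_mul_index M₁
  have hb₁ : ∀ d : ℕ, d.Prime → d ∣ M₁.index → d ∣ A₂ := by
    intro d hd hdd
    haveI : Fact d.Prime := ⟨hd⟩
    have hdX : d ∣ Nat.card X := hdd.trans (Subgroup.index_dvd_card M₁)
    obtain ⟨g, hg⟩ := exists_prime_orderOf_dvd_card' d hdX
    have hg1 : g ≠ 1 := by
      rintro rfl
      rw [orderOf_one] at hg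
      exact hd.one_lt.ne hg
    obtain ⟨M', hM', hgM⟩ := hC.cover g hg1 (hcop g)
    have hdM : d ∣ Nat.card M' := by
      rw [← hg]
      exact Subgroup.orderOf_dvd_natCard M' hgM
    rcases horders M' hM' with h | h
    · exact absurd hdd (hall d hd (h ▸ hdM))
    · exact h ▸ hdM
  have hb₂ : ∀ d : ℕ, d.Prime → d ∣ A₂ → d ∣ M₁.index := by
    intro d hd hdd
    haveI : Fact d.Prime := ⟨hd⟩
    by_contra hnd
    obtain ⟨D, hD⟩ := exists_sylow_le_of_not_dvd' M₁ hnd
    obtain ⟨y, hy, hyo⟩ := exists_el_of_dvd M₂ hd (h₂ ▸ hdd)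
    have hy1 : y ≠ 1 := by
      rintro rfl
      rw [orderOf_one] at hyo
      exact hd.one_lt.ne hyo
    have hyP : IsPGroup d (zpowers y) :=
      isPGroup_iff_isEl.2 fun x hx => (isEl_of_orderOf_eq hyo).of_mem_zpowers hx
    obtain ⟨D', hD'⟩ := hyP.exists_le_sylow
    obtain ⟨g, hg⟩ := MulAction.exists_smul_eq X D D'
    have hyD' : y ∈ (D' : Subgroup X) := hD' (mem_zpowers y)
    rw [← hg] at hyD'
    obtain ⟨x, hx, hxy⟩ := hyD'
    have hyM₁ : y ∈ conjS g M₁ := ⟨x, hD hx, hxy⟩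
    have h3 : M₂ = conjS g M₁ := hC.ti M₂ hM₂ _ (hC.conj M₁ hM₁ g) y hy1 hy hyM₁
    apply hne
    rw [← h₁, ← h₂, h3, card_conjS]
  -- (c) `B` divides `n₁`
  have hcopB : Nat.Coprime A₂ A₁ := by
    apply Nat.Coprime.symm
    apply Nat.coprime_of_dvd
    intro d hd hd₁ hd₂
    exact hall d hd hd₁ (hb₂ d hd hd₂)
  have hdvd : A₂ ∣ M₁.index := by
    have h3 : A₂ ∣ A₁ * M₁.index := by
      rw [hcard, ← h₂]
      exact Subgroup.card_subgroup_dvd_card M₂
    exact hcopB.dvd_of_dvd_mul_left h3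
  obtain ⟨f, hf⟩ := hdvd
  -- (d) the count
  have hcount := hC.two_count hp hfake hne horders hc₁ hc₂ hM₁ hM₂ h₁ h₂
  rw [hNeq] at hcount
  set n₁ := M₁.index with hn₁
  set c₂ := (Nm M₂).index with hc₂'
  have hcount2 : n₁ + c₂ = 1 + c₂ * A₂ := by
    have : n₁ * A₁ = Nat.card X := by rw [mul_comm]; exact hcard
    omega
  -- (e) the bound
  obtain ⟨q, r, hq, hr, hqr, hqd, hrd⟩ := hC.two M₂ hM₂
  rw [h₂] at hqd hrd
  have hA₂0 : A₂ ≠ 0 := by
    rw [← h₂]
    exact Nat.card_pos.ne'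
  have hn₁0 : n₁ ≠ 0 := Subgroup.index_ne_zero_of_finite
  have hbound : n₁ < A₂ * A₂ := by
    have hS : n₁.primeFactors = A₂.primeFactors := by
      ext d
      simp only [Nat.mem_primeFactors]
      constructor
      · rintro ⟨hd, hdd, -⟩
        exact ⟨hd, hb₁ d hd hdd, hA₂0⟩
      · rintro ⟨hd, hdd, -⟩
        exact ⟨hd, hb₂ d hd hdd, hn₁0⟩
    have hprod : ∀ n : ℕ, n ≠ 0 → ∏ d ∈ n.primeFactors, d ^ n.factorization d = n := by
      intro n hn
      have := Nat.prod_factorization_pow_eq_self hn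
      rw [Finsupp.prod, Nat.support_factorization] at this
      exact this
    have h1 := hprod n₁ hn₁0
    have h2 := hprod A₂ hA₂0
    rw [hS] at h1
    have hlt := prod_lt_sq (S := A₂.primeFactors) (q₀' := q) (q₁' := r)
      (Nat.mem_primeFactors.2 ⟨hq, hqd, hA₂0⟩) (Nat.mem_primeFactors.2 ⟨hr, hrd, hA₂0⟩) hqr
      (fun d => d ^ A₂.factorization d) (fun d => d ^ n₁.factorization d)
      (fun d hd => Nat.pow_pos (Nat.prime_of_mem_primeFactors hd).pos)
      (fun d hd => Nat.pow_pos (Nat.prime_of_mem_primeFactors hd).pos)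
      (by
        intro d hd d' hd' hdd'
        have hdp := Nat.prime_of_mem_primeFactors hd
        have hdp' := Nat.prime_of_mem_primeFactors hd'
        have hdA := Nat.dvd_of_mem_primeFactors hd
        have hdA' := Nat.dvd_of_mem_primeFactors hd'
        haveI : Fact d.Prime := ⟨hdp⟩
        obtain ⟨Q⟩ : Nonempty (Sylow d X) := inferInstance
        have hdX : d ∣ Nat.card X := by
          rw [← h₂] at hdA
          exact hdA.trans (Subgroup.card_subgroup_dvd_card M₂)
        have hdpp : d ≠ p := by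
          rintro rfl
          exact hfake hdX
        obtain ⟨M'', hM'', hQ, hdd⟩ := hC.exists_normalizing hp hdp hdpp hdX Q
        have hn : ¬ d ∣ A₁ := fun h => hall d hdp h (hb₂ d hdp hdA)
        have hM''A : Nat.card M'' = A₂ := by
          rcases horders M'' hM'' with h | h
          · exact absurd (h ▸ hdd) hn
          · exact h
        have hlt := hC.card_lt_of_normalizes hp hdp hdp' hdd' hdpp hM'' (hM''A ▸ hdA') Q
          Q.isPGroup' hQ
        rw [Sylow.card_eq_multiplicity, hM''A] at hlt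
        have hfac : (Nat.card X).factorization d = n₁.factorization d := by
          rw [← hcard, Nat.factorization_mul (by rw [← h₁]; exact Nat.card_pos.ne') hn₁0]
          simp [Nat.factorization_eq_zero_of_not_dvd hn]
        rwa [hfac] at hlt)
    rw [h1, h2] at hlt
    exact hlt
  -- (f) arithmetic
  have hA₂2 : 2 ≤ A₂ := by
    have := Nat.le_of_dvd (Nat.pos_of_ne_zero hA₂0) hqd
    have := hq.two_le
    omega
  have hf1 : f < A₂ := by
    rw [hf] at hbound
    exact Nat.lt_of_mul_lt_mul_left hbound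
  have hf0 : 0 < f := by
    rcases Nat.eq_zero_or_pos f with h | h
    · rw [h, mul_zero] at hf
      exact absurd hf hn₁0
    · exact h
  obtain ⟨b, hb⟩ : ∃ b, A₂ = b + 1 := ⟨A₂ - 1, by omega⟩
  have hc1 : c₂ = 1 := by
    rw [hf, hb] at hcount2
    rw [hb] at hf1
    have h3 : (f - 1) + b * f = b * c₂ := by
      have h4 : (b + 1) * f = b * f + f := by ring
      have h5 : c₂ * (b + 1) = b * c₂ + c₂ := by ring
      omega
    have h6 : b ∣ f - 1 := by
      have h7 : b ∣ (f - 1) + b * f := ⟨c₂, h3⟩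
      exact (Nat.dvd_add_left (dvd_mul_right b f)).1 h7
    have hb0 : 0 < b := by omega
    have h8 : f - 1 = 0 := Nat.eq_zero_of_dvd_of_lt h6 (by omega)
    have h9 : f = 1 := by omega
    rw [h9, mul_one, Nat.sub_self, zero_add] at h3
    exact (Nat.eq_of_mul_eq_mul_left hb0 (by rw [mul_one]; exact h3)).symm
  have hN2 : Nm M₂ = ⊤ := Subgroup.index_eq_one.1 hc1
  exact hC.solvable_of_normal_member hp hfake horders hM₂ (fun g => by rw [hN2]; exact mem_top g)

/-- Case (iii): one order conjugate, the other not. -/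
theorem solvable_of_conj_not_conj {A A' : ℕ}
    (horders : ∀ M ∈ 𝓜, Nat.card M = A ∨ Nat.card M = A') (hc : AllConj 𝓜 A)
    (hnc : ¬ AllConj 𝓜 A') {M : Subgroup X} (hM : M ∈ 𝓜) (hA : Nat.card M = A) :
    Group.IsSolvable X := by
  classical
  have hcop := hC.all_coprime hp hfake
  have huniq : ∀ q q' : ℕ, q.Prime → q'.Prime → HasNorm 𝓜 q A' → HasNorm 𝓜 q' A' → q = q' := by
    intro q q' hq hq' h h'
    by_contra hne
    exact hnc (hC.allConj_of_hasNorm hp hq hq' hne h h')
  have hidx : ∀ d : ℕ, d.Prime → d ∣ (Nm M).index → HasNorm 𝓜 d A' := by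
    intro d hd hdd
    have hdX : d ∣ Nat.card X := hdd.trans (Subgroup.index_dvd_card _)
    rcases hC.hasNorm_of_dvd hp hfake horders hd hdX with h | h
    · exfalso
      haveI : Fact d.Prime := ⟨hd⟩
      obtain ⟨_, M'', hM'', hc'', Q, hQ⟩ := h
      obtain ⟨g, rfl⟩ := hc M hM M'' hM'' hA hc''
      have h1 := not_dvd_index_of_sylow_le Q hQ
      rw [Nm_conjS, index_conjS] at h1
      exact h1 hdd
    · exact h
  by_cases hN1 : (Nm M).index = 1
  · have hN2 : Nm M = ⊤ := Subgroup.index_eq_one.1 hN1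
    exact hC.solvable_of_normal_member hp hfake horders hM (fun g => by rw [hN2]; exact mem_top g)
  obtain ⟨p0, hp0, hp0d⟩ := Nat.exists_prime_and_dvd hN1
  haveI : Fact p0.Prime := ⟨hp0⟩
  have hnorm0 := hidx p0 hp0 hp0d
  have hN : ∃ e, (Nm M).index = p0 ^ e :=
    exists_eq_pow_of_primes Subgroup.index_ne_zero_of_finite
      (fun d hd hdd => huniq d p0 hd hp0 (hidx d hd hdd) hnorm0)
  have hall : ∀ q : ℕ, q.Prime → q ≠ p0 → q ∣ Nat.card X → q ∣ Nat.card M := by
    intro q hq hqp hqX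
    rcases hC.hasNorm_of_dvd hp hfake horders hq hqX with h | h
    · rw [hA]
      exact h.1
    · exact absurd (huniq q p0 hq hp0 h hnorm0) hqp
  have habM := hC.ab M hM
  rcases hC.exo hp hM hp0 hN hall with ⟨e, he⟩ | ⟨r, z, y, hr, hrp, hrM, hzM, hz1, hzr, hzidx, -⟩
  · exact isSolvable_of_abelian_index_pow (p := p0) _ X rfl M e ⟨⟨fun a b =>
      Subtype.ext (habM a a.2 b b.2)⟩⟩ he
  -- the class of `z` has `p0`-power size
  have hfin : ∀ (E : Subgroup X) (s : ℕ), s.Prime → E.Normal → IsPGroup s E →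
      (∀ a ∈ E, ∀ b ∈ E, a * b = b * a) → E ≠ ⊥ → Group.IsSolvable X := by
    intro E s hs hEn hE hEab hne
    obtain ⟨M₀, hM₀, hn⟩ := hC.exists_normal_member hp hfake hs hEn hE hEab hne
    exact hC.solvable_of_normal_member hp hfake horders hM₀ hn
  let P0 : Subgroup X := pCore p0 X
  have hP0 : IsPGroup p0 P0 := Cfsg.Agent.Lib.Basic.PCore.pCore_isPGroup p0
  by_cases hP0bot : P0 = ⊥
  · -- conjugates of `z` commute
    have hcomm : ∀ g h : X, Commute (g * z * g⁻¹) (h * z * h⁻¹) := by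
      intro g h
      have h1 := commutator_conj_mem_pCore p0 z hzidx g h
      have h2 : (g * z * g⁻¹) * (h * z * h⁻¹) * (g * z * g⁻¹)⁻¹ * (h * z * h⁻¹)⁻¹ = 1 := by
        have : pCore p0 X = ⊥ := hP0bot
        rw [this, mem_bot] at h1
        exact h1
      rw [mul_inv_eq_one, mul_inv_eq_iff_eq_mul] at h2
      exact h2
    let S : Set X := Group.conjugatesOfSet ({z} : Set X)
    have hS : ∀ a ∈ S, ∃ g : X, a = g * z * g⁻¹ := by
      intro a ha
      obtain ⟨b, hb, hab⟩ := Group.mem_conjugatesOfSet_iff.1 ha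
      rw [Set.mem_singleton_iff] at hb
      subst hb
      obtain ⟨c, hc⟩ := isConj_iff.1 hab
      exact ⟨c, hc.symm⟩
    have hSS : ∀ a ∈ S, ∀ b ∈ S, Commute a b := by
      intro a ha b hb
      obtain ⟨g, rfl⟩ := hS a ha
      obtain ⟨h, rfl⟩ := hS b hb
      exact hcomm g h
    let E₀ : Subgroup X := Subgroup.normalClosure ({z} : Set X)
    have hE₀ : E₀ = Subgroup.closure S := rfl
    have hab₁ : ∀ a ∈ E₀, ∀ b ∈ S, Commute a b := by
      intro a ha b hb
      have hle : E₀ ≤ Subgroup.centralizer ({b} : Set X) := by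
        rw [hE₀, Subgroup.closure_le]
        intro c hc
        show c ∈ Subgroup.centralizer ({b} : Set X)
        rw [Subgroup.mem_centralizer_singleton_iff]
        exact hSS c hc b hb
      have := hle ha
      rw [Subgroup.mem_centralizer_singleton_iff] at this
      exact this
    have hab₂ : ∀ a ∈ E₀, ∀ b ∈ E₀, a * b = b * a := by
      intro a ha b hb
      have hle : E₀ ≤ Subgroup.centralizer ({a} : Set X) := by
        rw [hE₀, Subgroup.closure_le]
        intro c hc
        show c ∈ Subgroup.centralizer ({a} : Set X)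
        rw [Subgroup.mem_centralizer_singleton_iff]
        exact (hab₁ a ha c hc).symm
      have := hle hb
      rw [Subgroup.mem_centralizer_singleton_iff] at this
      exact this.symm
    haveI hE₀n : E₀.Normal := Subgroup.normalClosure_normal
    let E : Subgroup X := qSub E₀ hab₂ r
    have hEn : E.Normal := ⟨fun e he g => ⟨hE₀n.conj_mem e he.1 g, he.2.conj g⟩⟩
    have hzE : z ∈ E := ⟨Subgroup.subset_normalClosure (Set.mem_singleton z), hzr⟩
    have hEne : E ≠ ⊥ := by
      intro h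
      rw [h, mem_bot] at hzE
      exact hz1 hzE
    exact hfin E r hr hEn isPGroup_qSub (fun a ha b hb => hab₂ a ha.1 b hb.1) hEne
  · -- the center of `O_{p0}`
    let E : Subgroup X := P0 ⊓ Subgroup.centralizer (P0 : Set X)
    haveI : P0.Normal := inferInstance
    have hEn : E.Normal := inferInstance
    have hE : IsPGroup p0 E := by
      rw [isPGroup_iff_isEl]
      intro x hx
      exact isPGroup_iff_isEl.1 hP0 x hx.1
    have hEab : ∀ a ∈ E, ∀ b ∈ E, a * b = b * a := by
      intro a ha b hb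
      exact (Subgroup.mem_centralizer_iff.1 hb.2 a ha.1)
    have hEne : E ≠ ⊥ := by
      haveI : Nontrivial P0 := (Subgroup.nontrivial_iff_ne_bot P0).2 hP0bot
      haveI : Nontrivial (Subgroup.center P0) := hP0.center_nontrivial
      obtain ⟨w, hw⟩ := exists_ne (1 : Subgroup.center P0)
      intro h
      have hwE : ((w : P0) : X) ∈ E := by
        refine ⟨(w : P0).2, ?_⟩
        show _ ∈ Subgroup.centralizer (P0 : Set X)
        rw [Subgroup.mem_centralizer_iff]
        intro t ht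
        have := (Subgroup.mem_center_iff.1 w.2) ⟨t, ht⟩
        exact congrArg Subtype.val this
      rw [h, mem_bot] at hwE
      exact hw (Subtype.ext (Subtype.ext hwE))
    exact hfin E p0 hp0 hEn hE hEab hEne

/-- The partition theorem. -/
theorem partition_solvable {A₁ A₂ : ℕ} (horders : ∀ M ∈ 𝓜, Nat.card M = A₁ ∨ Nat.card M = A₂) :
    Group.IsSolvable X := by
  classical
  haveI : Fact p.Prime := ⟨hp⟩
  have hcop := hC.all_coprime hp hfake
  by_cases hne : ∃ M, M ∈ 𝓜
  swap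
  · push Not at hne
    apply Group.isSolvable_of_comm
    have h1 : ∀ x : X, x = 1 := by
      intro x
      by_contra hx
      obtain ⟨M, hM, -⟩ := hC.cover x hx (hcop x)
      exact hne M hM
    intro a b
    rw [h1 a, h1 b]
  obtain ⟨M₀, hM₀⟩ := hne
  by_cases hsame : ∀ M ∈ 𝓜, ∀ M' ∈ 𝓜, Nat.card M = Nat.card M'
  · obtain ⟨e, he⟩ := hC.star hp hM₀ hsame
    have habM := hC.ab M₀ hM₀
    exact isSolvable_of_abelian_index_pow (p := p) _ X rfl M₀ e ⟨⟨fun a b =>
      Subtype.ext (habM a a.2 b b.2)⟩⟩ he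
  push Not at hsame
  obtain ⟨M₁, hM₁, M₂, hM₂, hne12⟩ := hsame
  -- rename the orders
  have horders' : ∀ M ∈ 𝓜, Nat.card M = Nat.card M₁ ∨ Nat.card M = Nat.card M₂ := by
    intro M hM
    rcases horders M hM with h | h <;> rcases horders M₁ hM₁ with h1 | h1 <;>
      rcases horders M₂ hM₂ with h2 | h2 <;> omega
  set B₁ := Nat.card M₁ with hB₁
  set B₂ := Nat.card M₂ with hB₂
  have horders'' : ∀ M ∈ 𝓜, Nat.card M = B₂ ∨ Nat.card M = B₁ :=
    fun M hM => (horders' M hM).symm
  by_cases c₁ : AllConj 𝓜 B₁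
  · by_cases c₂ : AllConj 𝓜 B₂
    · -- both conjugate
      by_cases hN₁ : Nm M₁ ≤ M₁
      · exact hC.solvable_of_self_normalizing hp hfake hne12 horders' c₁ c₂ hM₁ hM₂ rfl rfl hN₁
      by_cases hN₂ : Nm M₂ ≤ M₂
      · exact hC.solvable_of_self_normalizing hp hfake hne12.symm horders'' c₂ c₁ hM₂ hM₁ rfl rfl hN₂
      exfalso
      have hcount := hC.two_count hp hfake hne12 horders' c₁ c₂ hM₁ hM₂ rfl rfl
      have hbig : ∀ K : Subgroup X, ¬ Nm K ≤ K → 2 * ((Nm K).index * Nat.card K) ≤ Nat.card X := by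
        intro K hK
        have h1 : K ≤ Nm K := le_Nm K
        have h2 : Nat.card K ∣ Nat.card (Nm K) := Subgroup.card_dvd_of_le h1
        obtain ⟨t, ht⟩ := h2
        have h3 : Nat.card (Nm K) * (Nm K).index = Nat.card X := Subgroup.card_mul_index _
        have ht2 : t ≠ 1 := by
          rintro rfl
          rw [mul_one] at ht
          exact hK (le_of_eq (Subgroup.eq_of_le_of_card_ge h1 (le_of_eq ht)).symm)
        have ht0 : t ≠ 0 := by
          rintro rfl
          rw [mul_zero] at ht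
          exact Nat.card_pos.ne' ht
        have ht3 : 2 ≤ t := by omega
        calc 2 * ((Nm K).index * Nat.card K) ≤ t * ((Nm K).index * Nat.card K) :=
              Nat.mul_le_mul_right _ ht3
          _ = Nat.card (Nm K) * (Nm K).index := by rw [ht]; ring
          _ = Nat.card X := h3
      have h1 : 2 * ((Nm M₁).index * B₁) ≤ Nat.card X := hbig M₁ hN₁
      have h2 : 2 * ((Nm M₂).index * B₂) ≤ Nat.card X := hbig M₂ hN₂
      have h3 : 0 < (Nm M₁).index := Nat.pos_of_ne_zero Subgroup.index_ne_zero_of_finite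
      have h4 : 0 < (Nm M₂).index := Nat.pos_of_ne_zero Subgroup.index_ne_zero_of_finite
      omega
    · exact hC.solvable_of_conj_not_conj hp hfake horders' c₁ c₂ hM₁ rfl
  · by_cases c₂ : AllConj 𝓜 B₂
    · exact hC.solvable_of_conj_not_conj hp hfake horders'' c₂ c₁ hM₂ rfl
    · -- neither conjugate: two primes only
      obtain ⟨q, r, hq, hr, hqr, hqd, hrd⟩ := hC.two M₁ hM₁
      have hqX : q ∣ Nat.card X := hqd.trans (Subgroup.card_subgroup_dvd_card M₁)
      have hrX : r ∣ Nat.card X := hrd.trans (Subgroup.card_subgroup_dvd_card M₁)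
      have hprimes : ∀ d : ℕ, d.Prime → d ∣ Nat.card X → d = q ∨ d = r := by
        intro d hd hdX
        by_contra hcon
        push Not at hcon
        obtain ⟨hdq, hdr⟩ := hcon
        have hd' := hC.hasNorm_of_dvd hp hfake horders' hd hdX
        have hq' := hC.hasNorm_of_dvd hp hfake horders' hq hqX
        have hr' := hC.hasNorm_of_dvd hp hfake horders' hr hrX
        rcases hd' with a | a <;> rcases hq' with b | b <;> rcases hr' with e | e
        · exact c₁ (hC.allConj_of_hasNorm hp hd hq hdq a b)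
        · exact c₁ (hC.allConj_of_hasNorm hp hd hq hdq a b)
        · exact c₁ (hC.allConj_of_hasNorm hp hd hr hdr a e)
        · exact c₂ (hC.allConj_of_hasNorm hp hq hr hqr b e)
        · exact c₁ (hC.allConj_of_hasNorm hp hq hr hqr b e)
        · exact c₂ (hC.allConj_of_hasNorm hp hd hr hdr a e)
        · exact c₂ (hC.allConj_of_hasNorm hp hd hq hdq a b)
        · exact c₂ (hC.allConj_of_hasNorm hp hd hq hdq a b)
      obtain ⟨a, b, hab⟩ := eq_pow_mul_pow_of_primes Nat.card_pos.ne' hq hr hprimes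
      exact Cfsg.Agent.Lib.Char.Burnside2.isSolvable_of_card_eq hq hr _ X a b rfl hab

end Comps

end Cfsg.Agent.Lib.Ito
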