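import Mathlib
import Cfsg.Agent.Lib.Ito.Partition2

/-!
# The family lemma: from centralizers to a family of components in `H / Z(H)`
-/

set_option autoImplicit false
set_option linter.style.haveILetI false
set_option linter.unusedSectionVars false
set_option linter.unusedVariables false

namespace Cfsg.Agent.Lib.Ito

open Subgroup Cfsg Cfsg.Agent.Lib.Char.Kazarin
open Cfsg.Agent.Lib.ClassSize.Basic (cent mem_cent_iff mem_cent_self mem_cent_comm center_le_cent
  cent_le_of_pow cent_mul_eq_inf)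

universe u

variable {H : Type u} [Group H] [Finite H]

/-- A commutator of a `p`-element and a `p'`-element lying in the center is trivial. -/
theorem commute_of_comm_central {p : ℕ} {x y : H} (hx : IsEl p x) (hy : Nat.Coprime (orderOf y) p)
    (hc : x * y * x⁻¹ * y⁻¹ ∈ center H) : Commute x y := by
  set c := x * y * x⁻¹ * y⁻¹ with hcdef
  have hcc : ∀ a : H, Commute c a := fun a => ((Subgroup.mem_center_iff.1 hc) a).symm
  have h1 : x * y * x⁻¹ = c * y := by rw [hcdef]; group
  have h2 : ∀ k : ℕ, x ^ k * y * (x ^ k)⁻¹ = c ^ k * y := by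
    intro k
    induction k with
    | zero => simp
    | succ k ih =>
      calc x ^ (k + 1) * y * (x ^ (k + 1))⁻¹ = x * (x ^ k * y * (x ^ k)⁻¹) * x⁻¹ := by
            rw [pow_succ']; group
        _ = x * (c ^ k * y) * x⁻¹ := by rw [ih]
        _ = c ^ k * (x * y * x⁻¹) := by
            have : x * c ^ k = c ^ k * x := ((hcc x).pow_left k).eq.symm
            calc x * (c ^ k * y) * x⁻¹ = (x * c ^ k) * y * x⁻¹ := by group
              _ = (c ^ k * x) * y * x⁻¹ := by rw [this]
              _ = c ^ k * (x * y * x⁻¹) := by group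
        _ = c ^ (k + 1) * y := by rw [h1, pow_succ]; group
  obtain ⟨e, he⟩ := hx
  have h3 := h2 (p ^ e)
  rw [he] at h3
  have h4 : c ^ p ^ e = 1 := by
    have : (1 : H) * y * (1 : H)⁻¹ = y := by group
    rw [this] at h3
    exact (mul_eq_right.1 h3.symm)
  have h5 : c ^ orderOf y = 1 := by
    have h6 : (x * y * x⁻¹) ^ orderOf y = 1 := by
      rw [conj_pow, pow_orderOf_eq_one]; group
    rw [h1, (hcc y).mul_pow, pow_orderOf_eq_one, mul_one] at h6
    exact h6
  have h7 : c = 1 := by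
    have hd1 := orderOf_dvd_of_pow_eq_one h4
    have hd2 := orderOf_dvd_of_pow_eq_one h5
    have hcop : Nat.Coprime (orderOf y) (p ^ e) := Nat.Coprime.pow_right _ hy
    exact orderOf_eq_one_iff.1 (Nat.eq_one_of_dvd_coprimes hcop hd2 hd1)
  rw [hcdef, mul_inv_eq_one, mul_inv_eq_iff_eq_mul] at h7
  exact h7

/-- If all `r`-elements of `K` are central, a noncentral `r`-element has more room in its
centralizer. -/
theorem noRoom {r : ℕ} (hr : r.Prime) {y : H} (hy : IsEl r y) (hyc : y ∉ center H) (K : Subgroup H)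
    (hK : ∀ t ∈ K, IsEl r t → t ∈ center H) :
    (Nat.card K).factorization r < (Nat.card (cent y)).factorization r := by
  haveI : Fact r.Prime := ⟨hr⟩
  obtain ⟨S⟩ : Nonempty (Sylow r K) := inferInstance
  let R : Subgroup H := (S : Subgroup K).map K.subtype
  have hR : IsPGroup r R := S.isPGroup'.map _
  have hRc : R ≤ center H := by
    intro x hx
    obtain ⟨s, hs, rfl⟩ := hx
    apply hK _ (s : K).2
    exact isPGroup_iff_isEl.1 hR _ (Subgroup.mem_map_of_mem _ hs)
  haveI hRn : R.Normal := by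
    constructor
    intro n hn g
    have : g * n * g⁻¹ = n := by
      rw [((Subgroup.mem_center_iff.1 (hRc hn)) g)]
      group
    rwa [this]
  have hRcard : Nat.card R = r ^ (Nat.card K).factorization r := by
    have h1 : Nat.card R = Nat.card S :=
      (Nat.card_congr ((S : Subgroup K).equivMapOfInjective K.subtype K.subtype_injective).toEquiv).symm
    rw [h1]
    exact Sylow.card_eq_multiplicity S
  let T : Subgroup H := R ⊔ zpowers y
  have hT : IsPGroup r T :=
    hR.to_sup_of_normal_left (isPGroup_iff_isEl.2 fun x hx => hy.of_mem_zpowers hx)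
  have hTle : T ≤ cent y := by
    apply sup_le
    · exact hRc.trans (center_le_cent y)
    · rw [zpowers_le]
      exact mem_cent_self y
  have hRT : R ≤ T := le_sup_left
  have hyT : y ∈ T := (le_sup_right : zpowers y ≤ T) (mem_zpowers y)
  have hyR : y ∉ R := fun h => hyc (hRc h)
  have hlt : Nat.card R < Nat.card T := by
    by_contra hle
    have h1 : R = T := Subgroup.eq_of_le_of_card_ge hRT (not_lt.1 hle)
    exact hyR (h1 ▸ hyT)
  obtain ⟨k, hk⟩ := IsPGroup.iff_card.1 hT
  have hdvd : r ^ k ∣ Nat.card (cent y) := by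
    rw [← hk]
    exact Subgroup.card_dvd_of_le hTle
  have hkle : k ≤ (Nat.card (cent y)).factorization r :=
    (hr.pow_dvd_iff_le_factorization Nat.card_pos.ne').1 hdvd
  rw [hRcard, hk] at hlt
  have := (Nat.pow_lt_pow_iff_right hr.one_lt).1 hlt
  omega

/-- A noncentral primary `p'`-element. -/
def Pri (p : ℕ) (y : H) (s : ℕ) : Prop := y ∉ center H ∧ s.Prime ∧ s ≠ p ∧ IsEl s y

theorem Pri.conj {p : ℕ} {y : H} {s : ℕ} (h : Pri p y s) (g : H) : Pri p (g * y * g⁻¹) s := by
  refine ⟨fun hc => h.1 ?_, h.2.1, h.2.2.1, h.2.2.2.conj g⟩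
  have h1 : g⁻¹ * (g * y * g⁻¹) * g = y := by group
  rw [← h1]
  have h2 := (inferInstance : (center H).Normal).conj_mem _ hc g⁻¹
  simpa using h2

theorem Pri.coprime {p : ℕ} (hp : p.Prime) {y : H} {s : ℕ} (h : Pri p y s) :
    Nat.Coprime (orderOf y) p := h.2.2.2.coprime_of_ne h.2.1 hp h.2.2.1

/-- A primary power outside the center of a `p'`-element. -/
theorem exists_pri_power {p : ℕ} (hp : p.Prime) {v : H} (hvp : Nat.Coprime (orderOf v) p)
    (hvc : v ∉ center H) : ∃ (k s : ℕ), Pri p (v ^ k) s := by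
  obtain ⟨k, s, hs, hk, he⟩ := exists_primary_notMem hvc
  refine ⟨k, s, hk, hs, ?_, he⟩
  rintro rfl
  have h1 : v ^ k = 1 := he.eq_one_of_coprime (coprime_orderOf_pow hvp k)
  rw [h1] at hk
  exact hk (one_mem _)

/-- The hypotheses of the family lemma, in the case where every element has a partner. -/
structure FamHyp (p : ℕ) (H : Type u) [Group H] : Prop where
  prime : p.Prime
  Fw : ∀ (y : H) (s : ℕ), Pri p y s → ∀ t ∈ cent y, Nat.Coprime (orderOf t) p →
    Nat.Coprime (orderOf t) s → ∀ w ∈ cent y, Commute t w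
  partner : ∀ (y : H) (s : ℕ), Pri p y s → ∃ (t : H) (s' : ℕ), Pri p t s' ∧ s' ≠ s ∧ t ∈ cent y

namespace FamHyp

variable {p : ℕ} (h : FamHyp p H)
include h

theorem cent_eq {y t : H} {s s' : ℕ} (hy : Pri p y s) (ht : Pri p t s') (hne : s' ≠ s)
    (hty : t ∈ cent y) : cent y = cent t := by
  apply le_antisymm
  · intro w hw
    have := h.Fw y s hy t hty (ht.coprime h.prime)
      (ht.2.2.2.coprime_of_ne ht.2.1 hy.2.1 hne) w hw
    exact mem_cent_iff.2 this
  · intro w hw
    have := h.Fw t s' ht y (mem_cent_comm.1 hty) (hy.coprime h.prime)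
      (hy.2.2.2.coprime_of_ne hy.2.1 ht.2.1 (Ne.symm hne)) w hw
    exact mem_cent_iff.2 this

/-- `p'`-elements of the centralizer are central in it. -/
theorem central {y : H} {s : ℕ} (hy : Pri p y s) {f a : H} (hf : f ∈ cent y)
    (hfp : Nat.Coprime (orderOf f) p) (ha : a ∈ cent y) : Commute f a := by
  obtain ⟨t, s', ht, hne, hty⟩ := h.partner y s hy
  have heq := h.cent_eq hy ht hne hty
  obtain ⟨u, v, hu, hv, huv, hue, hvc⟩ := exists_parts hy.2.1 f
  have hle : zpowers f ≤ cent y := zpowers_le.2 hf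
  have h1 : Commute v a := h.Fw y s hy v (hle hv) (coprime_orderOf_of_mem_zpowers hfp hv) hvc a ha
  have h2 : Commute u a := by
    have hu' : u ∈ cent t := heq ▸ hle hu
    have ha' : a ∈ cent t := heq ▸ ha
    exact h.Fw t s' ht u hu' (coprime_orderOf_of_mem_zpowers hfp hu)
      (hue.coprime_of_ne hy.2.1 ht.2.1 (Ne.symm hne)) a ha'
  rw [← huv]
  exact h2.mul_left h1

/-- A noncentral `p'`-element of the centralizer has the same centralizer. -/
theorem key_cent {y v : H} {s : ℕ} (hy : Pri p y s) (hv : v ∈ cent y)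
    (hvp : Nat.Coprime (orderOf v) p) (hvc : v ∉ center H) : cent v = cent y := by
  obtain ⟨k, s₀, hk⟩ := exists_pri_power h.prime hvp hvc
  obtain ⟨t, s', ht, hne, hty⟩ := h.partner y s hy
  have heq := h.cent_eq hy ht hne hty
  have hv0 : v ^ k ∈ cent y := (cent y).pow_mem hv k
  have h0 : cent (v ^ k) = cent y := by
    by_cases hs : s₀ = s
    · -- use the partner
      have hv0' : v ^ k ∈ cent t := heq ▸ hv0
      have hne' : s₀ ≠ s' := fun h' => hne (h'.symm.trans hs)
      rw [heq]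
      exact (h.cent_eq ht hk hne' hv0').symm
    · exact (h.cent_eq hy hk hs hv0).symm
  apply le_antisymm
  · rw [← h0]
    exact cent_le_of_pow v k
  · intro a ha
    exact mem_cent_iff.2 (h.central hy hv hvp ha)

end FamHyp

/-- The subgroup generated by the `p'`-elements of `K`. -/
def Dsub (K : Subgroup H) (p : ℕ) : Subgroup H :=
  Subgroup.closure {k | k ∈ K ∧ Nat.Coprime (orderOf k) p}

theorem mem_Dsub {K : Subgroup H} {p : ℕ}
    (hK : ∀ a ∈ K, Nat.Coprime (orderOf a) p → ∀ b ∈ K, Commute a b) {x : H} :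
    x ∈ Dsub K p ↔ x ∈ K ∧ Nat.Coprime (orderOf x) p := by
  constructor
  · intro hx
    induction hx using Subgroup.closure_induction with
    | mem x hx => exact hx
    | one => exact ⟨K.one_mem, by simp⟩
    | mul a b _ _ ha hb =>
      exact ⟨K.mul_mem ha.1 hb.1, coprime_orderOf_mul (hK a ha.1 ha.2 b hb.1) ha.2 hb.2⟩
    | inv a _ ha => exact ⟨K.inv_mem ha.1, coprime_orderOf_inv ha.2⟩
  · intro hx
    exact Subgroup.subset_closure hx

/-- The quotient map by the center. -/
abbrev piZ : H →* H ⧸ center H := QuotientGroup.mk' (center H)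

theorem piZ_surjective : Function.Surjective (piZ (H := H)) := QuotientGroup.mk'_surjective _

theorem piZ_eq_one {x : H} : piZ x = 1 ↔ x ∈ center H := by
  simp [piZ]

theorem piZ_eq_iff {x y : H} : piZ x = piZ y ↔ ∃ c ∈ center H, x = y * c := by
  constructor
  · intro h
    refine ⟨y⁻¹ * x, ?_, by group⟩
    rw [← piZ_eq_one, map_mul, map_inv, h]
    group
  · rintro ⟨c, hc, rfl⟩
    rw [map_mul, piZ_eq_one.2 hc, mul_one]

/-- The members. -/
def Mb (p : ℕ) (y : H) : Subgroup (H ⧸ center H) := (Dsub (cent y) p).map piZ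

namespace FamHyp

variable {p : ℕ} (h : FamHyp p H)
include h

theorem mem_Mb {y : H} {s : ℕ} (hy : Pri p y s) {x : H ⧸ center H} :
    x ∈ Mb p y ↔ ∃ d, d ∈ cent y ∧ Nat.Coprime (orderOf d) p ∧ piZ d = x := by
  have hK : ∀ a ∈ cent y, Nat.Coprime (orderOf a) p → ∀ b ∈ cent y, Commute a b :=
    fun a ha hap b hb => h.central hy ha hap hb
  constructor
  · rintro ⟨d, hd, rfl⟩
    rw [SetLike.mem_coe, mem_Dsub hK] at hd
    exact ⟨d, hd.1, hd.2, rfl⟩
  · rintro ⟨d, hd, hdp, rfl⟩
    exact ⟨d, (mem_Dsub hK).2 ⟨hd, hdp⟩, rfl⟩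

theorem conjS_Mb {y : H} {s : ℕ} (hy : Pri p y s) (g : H) :
    conjS (piZ g) (Mb p y) = Mb p (g * y * g⁻¹) := by
  ext x
  rw [mem_conjS, h.mem_Mb hy, h.mem_Mb (hy.conj g)]
  constructor
  · rintro ⟨d, hd, hdp, hdx⟩
    refine ⟨g * d * g⁻¹, ?_, coprime_orderOf_conj hdp g, ?_⟩
    · rw [mem_cent_iff] at hd ⊢
      calc g * y * g⁻¹ * (g * d * g⁻¹) = g * (y * d) * g⁻¹ := by group
        _ = g * (d * y) * g⁻¹ := by rw [hd]
        _ = g * d * g⁻¹ * (g * y * g⁻¹) := by group
    · simp only [map_mul, map_inv, hdx]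
      group
  · rintro ⟨d, hd, hdp, rfl⟩
    refine ⟨g⁻¹ * d * g, ?_, ?_, ?_⟩
    · rw [mem_cent_iff] at hd ⊢
      calc y * (g⁻¹ * d * g) = g⁻¹ * ((g * y * g⁻¹) * d) * g := by group
        _ = g⁻¹ * (d * (g * y * g⁻¹)) * g := by rw [hd]
        _ = g⁻¹ * d * g * y := by group
    · have := coprime_orderOf_conj hdp g⁻¹
      simpa using this
    · simp only [map_mul, map_inv]

theorem Mb_eq_of_cent_eq {y y' : H} (hc : cent y = cent y') : Mb p y = Mb p y' := by
  unfold Mb
  rw [hc]

/-- The family. -/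
def fam (p : ℕ) (H : Type u) [Group H] : Set (Subgroup (H ⧸ center H)) :=
  {M | ∃ (y : H) (s : ℕ), Pri p y s ∧ M = Mb p y}

/-- The family is a family of components. -/
theorem comps : Comps p (fam p H) := by
  have hp := h.prime
  refine ⟨?_, ?_, ?_, ?_, ?_, ?_, ?_⟩
  · -- abelian
    rintro M ⟨y, s, hy, rfl⟩ a ha b hb
    obtain ⟨d, hd, hdp, rfl⟩ := (h.mem_Mb hy).1 ha
    obtain ⟨e, he, hep, rfl⟩ := (h.mem_Mb hy).1 hb
    rw [← map_mul, ← map_mul, (h.central hy hd hdp he).eq]
  · -- coprime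
    rintro M ⟨y, s, hy, rfl⟩
    apply Nat.Coprime.symm
    rw [Nat.Prime.coprime_iff_not_dvd hp]
    intro hd
    obtain ⟨u, hu, huo⟩ := exists_el_of_dvd _ hp hd
    obtain ⟨d, -, hdp, rfl⟩ := (h.mem_Mb hy).1 hu
    have h1 : orderOf (piZ d) ∣ orderOf d := orderOf_map_dvd _ _
    rw [huo] at h1
    exact hp.one_lt.ne' (Nat.Coprime.eq_one_of_dvd hdp.symm h1)
  · -- two primes
    rintro M ⟨y, s, hy, rfl⟩
    obtain ⟨t, s', ht, hne, hty⟩ := h.partner y s hy
    have key : ∀ {w : H} {r : ℕ}, Pri p w r → w ∈ cent y → r ∣ Nat.card (Mb p y) := by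
      intro w r hw hwy
      have hmem : piZ w ∈ Mb p y := (h.mem_Mb hy).2 ⟨w, hwy, hw.coprime hp, rfl⟩
      have h1 : piZ w ≠ 1 := fun h' => hw.1 (piZ_eq_one.1 h')
      obtain ⟨e, he⟩ := (hw.2.2.2.map piZ).orderOf_eq hw.2.1
      have he0 : e ≠ 0 := by
        rintro rfl
        rw [pow_zero, orderOf_eq_one_iff] at he
        exact h1 he
      have h2 : r ∣ orderOf (piZ w) := by
        rw [he]
        exact dvd_pow_self _ he0
      exact h2.trans (Subgroup.orderOf_dvd_natCard _ hmem)
    exact ⟨s, s', hy.2.1, ht.2.1, Ne.symm hne, key hy (mem_cent_self y), key ht hty⟩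
  · -- conjugation
    rintro M ⟨y, s, hy, rfl⟩ g
    obtain ⟨g, rfl⟩ := piZ_surjective g
    exact ⟨g * y * g⁻¹, s, hy.conj g, h.conjS_Mb hy g⟩
  · -- trivial intersection
    rintro M ⟨y, s, hy, rfl⟩ M' ⟨y', s', hy', rfl⟩ v hv1 hv hv'
    obtain ⟨d, hd, hdp, rfl⟩ := (h.mem_Mb hy).1 hv
    obtain ⟨d', hd', hdp', hdd⟩ := (h.mem_Mb hy').1 hv'
    have hdc : d ∉ center H := fun h' => hv1 (piZ_eq_one.2 h')
    have hdc' : d' ∉ center H := by
      intro h'
      apply hv1
      rw [← hdd]
      exact piZ_eq_one.2 h'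
    have h1 := h.key_cent hy hd hdp hdc
    have h2 := h.key_cent hy' hd' hdp' hdc'
    obtain ⟨c, hc, hcd⟩ := piZ_eq_iff.1 hdd
    have h3 : cent d' = cent d := by
      ext w
      rw [mem_cent_iff, mem_cent_iff, hcd]
      have hcw : c * w = w * c := ((Subgroup.mem_center_iff.1 hc) w).symm
      constructor
      · intro h4
        have h5 : d * w * c = w * d * c := by
          calc d * w * c = d * (w * c) := by group
            _ = d * (c * w) := by rw [hcw]
            _ = d * c * w := by group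
            _ = w * (d * c) := h4
            _ = w * d * c := by group
        exact mul_right_cancel h5
      · intro h4
        calc d * c * w = d * (c * w) := by group
          _ = d * (w * c) := by rw [hcw]
          _ = d * w * c := by group
          _ = w * d * c := by rw [h4]
          _ = w * (d * c) := by group
    exact h.Mb_eq_of_cent_eq (h1.symm.trans (h3.symm.trans h2))
  · -- cover
    intro g hg1 hgp
    obtain ⟨g, rfl⟩ := piZ_surjective g
    obtain ⟨a, b, ha, hb, hab, hae, hbc⟩ := exists_parts hp g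
    have hb' : piZ b = piZ g := map_part_right piZ ha hab hae hgp
    have hbc' : b ∉ center H := by
      intro h'
      apply hg1
      rw [← hb']
      exact piZ_eq_one.2 h'
    obtain ⟨k, s, hk⟩ := exists_pri_power hp hbc hbc'
    refine ⟨Mb p (b ^ k), ⟨b ^ k, s, hk, rfl⟩, ?_⟩
    refine (h.mem_Mb hk).2 ⟨b, ?_, hbc, hb'⟩
    rw [mem_cent_iff]
    exact ((Commute.refl b).pow_left k).eq
  · -- central
    rintro M ⟨y, s, hy, rfl⟩ g hg v hv hv1 hc
    obtain ⟨g, rfl⟩ := piZ_surjective g
    obtain ⟨a, b, ha, hb, hab, hae, hbc⟩ := exists_parts hp g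
    have ha' : piZ a = piZ g := map_part_left piZ ha hb hab hbc hg
    obtain ⟨d, hd, hdp, rfl⟩ := (h.mem_Mb hy).1 hv
    have hdc : d ∉ center H := fun h' => hv1 (piZ_eq_one.2 h')
    have h1 : a * d * a⁻¹ * d⁻¹ ∈ center H := by
      rw [← piZ_eq_one]
      simp only [map_mul, map_inv, ha']
      have h2 : piZ g * piZ d = piZ d * piZ g := hc
      rw [h2]
      group
    have h3 : Commute a d := commute_of_comm_central hae hdp h1
    have h4 : a ∈ cent y := by
      rw [← h.key_cent hy hd hdp hdc]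
      exact mem_cent_iff.2 h3.symm
    intro u hu
    obtain ⟨e, he, hep, rfl⟩ := (h.mem_Mb hy).1 hu
    rw [← ha']
    have h5 : Commute e a := h.central hy he hep h4
    show piZ a * piZ e = piZ e * piZ a
    rw [← map_mul, ← map_mul, h5.symm.eq]

/-- The order of a member in terms of the centralizer. -/
theorem card_Mb_factorization {y : H} {s r : ℕ} (hy : Pri p y s) (hr : r.Prime) (hrp : r ≠ p) :
    (Nat.card (Mb p y)).factorization r + (Nat.card (center H)).factorization r
      = (Nat.card (cent y)).factorization r := by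
  haveI : Fact r.Prime := ⟨hr⟩
  have hp := h.prime
  let L : Subgroup H := (Mb p y).comap piZ
  -- `|L| = |M| |Z|`
  have hLcard : Nat.card L = Nat.card (Mb p y) * Nat.card (center H) := by
    have h1 := Subgroup.card_mul_index L
    have h2 := Subgroup.card_mul_index (Mb p y)
    have h3 : L.index = (Mb p y).index := Subgroup.index_comap_of_surjective _ piZ_surjective
    have h4 : Nat.card H = Nat.card (H ⧸ center H) * Nat.card (center H) :=
      Subgroup.card_eq_card_quotient_mul_card_subgroup _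
    rw [h3] at h1
    rw [h4, ← h2] at h1
    have h5 : 0 < (Mb p y).index := Nat.pos_of_ne_zero Subgroup.index_ne_zero_of_finite
    apply Nat.eq_of_mul_eq_mul_right h5
    rw [h1]
    ring
  have hLle : L ≤ cent y := by
    intro x hx
    obtain ⟨d, hd, -, hdx⟩ := (h.mem_Mb hy).1 hx
    obtain ⟨c, hc, rfl⟩ := piZ_eq_iff.1 hdx.symm
    exact (cent y).mul_mem hd (center_le_cent y hc)
  let L' : Subgroup (cent y) := L.subgroupOf (cent y)
  have hL'card : Nat.card L' = Nat.card L := Nat.card_congr (subgroupOfEquivOfLe hLle).toEquiv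
  obtain ⟨S⟩ : Nonempty (Sylow r (cent y)) := inferInstance
  have hSle : (S : Subgroup (cent y)) ≤ L' := by
    intro x hx
    have h1 : IsEl r (x : H) := by
      obtain ⟨e, he⟩ := S.isPGroup' ⟨x, hx⟩
      exact ⟨e, congrArg (fun t : S => ((t : cent y) : H)) he⟩
    show piZ (x : H) ∈ Mb p y
    exact (h.mem_Mb hy).2 ⟨x, x.2, h1.coprime_of_ne hr hp hrp, rfl⟩
  have hnd : ¬ r ∣ L'.index := not_dvd_index_of_sylow_le S hSle
  have hcard : Nat.card L' * L'.index = Nat.card (cent y) := Subgroup.card_mul_index L'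
  rw [← hcard, hL'card, hLcard, Nat.factorization_mul (mul_ne_zero Nat.card_pos.ne' Nat.card_pos.ne')
    Subgroup.index_ne_zero_of_finite, Nat.factorization_mul Nat.card_pos.ne' Nat.card_pos.ne']
  simp [Nat.factorization_eq_zero_of_not_dvd hnd]

end FamHyp

/-- The family lemma. -/
theorem family {p : ℕ} (hp : p.Prime)
    (Fw : ∀ (y : H) (s : ℕ), Pri p y s → ∀ t ∈ cent y, Nat.Coprime (orderOf t) p →
      Nat.Coprime (orderOf t) s → ∀ w ∈ cent y, Commute t w)
    (hconst : ∀ (y y' : H) (s s' : ℕ), Pri p y s → Pri p y' s' → ∀ r : ℕ, r.Prime → r ≠ p →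
      (Nat.card (cent y)).factorization r = (Nat.card (cent y')).factorization r) :
    (∃ q : ℕ, ∀ (y : H) (s : ℕ), Pri p y s → s = q) ∨
      (Group.IsSolvable H ∧ ∀ (y : H) (s : ℕ), Pri p y s → ∃ e, (cent y).index = p ^ e) := by
  classical
  haveI : Fact p.Prime := ⟨hp⟩
  by_cases hex : ∃ (y : H) (s : ℕ), Pri p y s
  swap
  · left
    push Not at hex
    exact ⟨0, fun y s h => absurd h (hex y s)⟩
  obtain ⟨y₀, s₀, hy₀⟩ := hex
  by_cases hpartner : ∀ (y : H) (s : ℕ), Pri p y s → ∃ (t : H) (s' : ℕ), Pri p t s' ∧ s' ≠ s ∧ t ∈ cent y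
  swap
  · left
    push Not at hpartner
    obtain ⟨y₁, s₁, hy₁, hno⟩ := hpartner
    refine ⟨s₁, fun y s hy => ?_⟩
    by_contra hne
    have h1 := noRoom hy.2.1 hy.2.2.2 hy.1 (cent y₁) (by
      intro t ht hte
      by_contra htc
      exact hno t s ⟨htc, hy.2.1, hy.2.2.1, hte⟩ hne ht)
    have h2 := hconst y y₁ s s₁ hy hy₁ s hy.2.1 hy.2.2.1
    omega
  right
  have h : FamHyp p H := ⟨hp, Fw, hpartner⟩
  have hC := h.comps
  have hsame : ∀ M ∈ FamHyp.fam p H, ∀ M' ∈ FamHyp.fam p H, Nat.card M = Nat.card M' := by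
    rintro M ⟨y, s, hy, rfl⟩ M' ⟨y', s', hy', rfl⟩
    apply Nat.eq_of_factorization_eq Nat.card_pos.ne' Nat.card_pos.ne'
    intro r
    by_cases hr : r.Prime
    swap
    · rw [Nat.factorization_eq_zero_of_not_prime _ hr, Nat.factorization_eq_zero_of_not_prime _ hr]
    by_cases hrp : r = p
    · subst hrp
      have hc1 := hC.cop _ ⟨y, s, hy, rfl⟩
      have hc2 := hC.cop _ ⟨y', s', hy', rfl⟩
      rw [Nat.factorization_eq_zero_of_not_dvd, Nat.factorization_eq_zero_of_not_dvd]
      · intro hd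
        exact hr.one_lt.ne' (Nat.Coprime.eq_one_of_dvd hc2.symm hd)
      · intro hd
        exact hr.one_lt.ne' (Nat.Coprime.eq_one_of_dvd hc1.symm hd)
    · have h1 := h.card_Mb_factorization hy hr hrp
      have h2 := h.card_Mb_factorization hy' hr hrp
      have h3 := hconst y y' s s' hy hy' r hr hrp
      omega
  have hindex : ∀ (y : H) (s : ℕ), Pri p y s → ∃ e, (Mb p y).index = p ^ e := by
    intro y s hy
    exact hC.star hp ⟨y, s, hy, rfl⟩ hsame
  constructor
  · obtain ⟨e, he⟩ := hindex y₀ s₀ hy₀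
    have habM := hC.ab _ ⟨y₀, s₀, hy₀, rfl⟩
    have hX : Group.IsSolvable (H ⧸ center H) :=
      isSolvable_of_abelian_index_pow (p := p) _ _ rfl (Mb p y₀) e ⟨⟨fun a b =>
        Subtype.ext (habM a a.2 b b.2)⟩⟩ he
    have hZ : Group.IsSolvable (center H) := by
      apply Group.isSolvable_of_comm
      intro a b
      exact Subtype.ext ((Subgroup.mem_center_iff.1 a.2) b).symm
    exact Group.isSolvable_of_ker_le_range (center H).subtype (QuotientGroup.mk' (center H)) (by
      intro x hx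
      have : x ∈ center H := by simpa using hx
      exact ⟨⟨x, this⟩, rfl⟩)
  · intro y s hy
    obtain ⟨e, he⟩ := hindex y s hy
    have h1 : (Mb p y).comap piZ ≤ cent y := by
      intro x hx
      obtain ⟨d, hd, -, hdx⟩ := (h.mem_Mb hy).1 hx
      obtain ⟨c, hc, rfl⟩ := piZ_eq_iff.1 hdx.symm
      exact (cent y).mul_mem hd (center_le_cent y hc)
    have h2 : ((Mb p y).comap piZ).index = p ^ e := by
      rw [Subgroup.index_comap_of_surjective _ piZ_surjective, he]
    have h3 : (cent y).index ∣ p ^ e := h2 ▸ Subgroup.index_dvd_of_le h1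
    obtain ⟨f, -, hf⟩ := (Nat.dvd_prime_pow hp).1 h3
    exact ⟨f, hf⟩

end Cfsg.Agent.Lib.Ito
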